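import Groth.Agent.Lib.CycCover13.Alg
import Mathlib.RingTheory.IntegralClosure.IntegrallyClosed
import Mathlib.RingTheory.Polynomial.ScaleRoots
import Mathlib.RingTheory.RootsOfUnity.PrimitiveRoots
import Mathlib.FieldTheory.IsAlgClosed.AlgebraicClosure
import Mathlib.RingTheory.RootsOfUnity.AlgebraicallyClosed

/-!
# `A[T]/(T^N - f)` is integrally closed when `N` and `f` are units
-/

set_option autoImplicit false
set_option backward.isDefEq.respectTransparency false
set_option linter.style.haveILetI false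

universe u

open Polynomial

namespace Groth.Agent.CycCov12

open Groth.Agent.CycCover13

variable {A K : Type u} [CommRing A] [Field K] [Algebra A K] {N : ℕ}

theorem sum_root_pow {L : Type u} [Field L] {ζ : L} (hζ : IsPrimitiveRoot ζ N) (hN : 0 < N) (i m : Fin N) :
    (∑ j ∈ Finset.range N, (ζ ^ j) ^ ((m : ℕ) + (N - (i : ℕ)))) = if m = i then (N : L) else 0 := by
  have hsum : ∀ e : ℕ, (∑ j ∈ Finset.range N, (ζ ^ j) ^ e) = ∑ j ∈ Finset.range N, (ζ ^ e) ^ j :=
    fun e => Finset.sum_congr rfl fun j _ => by rw [← pow_mul, ← pow_mul, mul_comm]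
  rw [hsum]
  split_ifs with h
  · subst h
    rw [show (m : ℕ) + (N - (m : ℕ)) = N by omega, hζ.pow_eq_one]
    simp
  · have hne : ζ ^ ((m : ℕ) + (N - (i : ℕ))) ≠ 1 := fun h1 => by
      obtain ⟨q, hq⟩ := hζ.pow_eq_one_iff_dvd _ |>.1 h1
      have hi := i.2
      have hm := m.2
      have hmi : (m : ℕ) ≠ i := fun e => h (Fin.ext e)
      rcases Nat.lt_or_ge q 2 with hq2 | hq2
      · interval_cases q <;> omega
      · have := Nat.mul_le_mul_left N hq2
        omega
    rw [geom_sum_eq hne, ← pow_mul, mul_comm, pow_mul, hζ.pow_eq_one, one_pow, sub_self, zero_div]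

/-- An element integral over the base has integral coordinates. -/
theorem isIntegral_coord (hN : 0 < N) (f : A) (hf : IsUnit f) (hNA : IsUnit (N : A))
    {y : AdjoinRoot (pol N (algebraMap A K f))} (p : A[X]) (hp : p.Monic)
    (hy : p.eval₂ ((AdjoinRoot.of _).comp (algebraMap A K)) y = 0) (i : Fin N) :
    IsIntegral A ((coord hN (algebraMap A K f)).repr y i) := by
  let L := AlgebraicClosure K
  let c := algebraMap A K f
  obtain ⟨u, hu⟩ := hf
  obtain ⟨n', hn'⟩ := hNA
  have hNL : (algebraMap A L) ↑n' = (N : L) := by rw [hn', map_natCast]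
  haveI : NeZero (N : L) := ⟨by rw [← hNL]; exact (n'.isUnit.map (algebraMap A L)).ne_zero⟩
  obtain ⟨ζ, hζ⟩ := HasEnoughRootsOfUnity.exists_primitiveRoot L N
  obtain ⟨r, hr⟩ := IsAlgClosed.exists_pow_nat_eq (algebraMap A L f) hN
  let rt : ℕ → L := fun j => ζ ^ j * r
  have hrt : ∀ j, rt j ^ N = algebraMap A L f := fun j => by
    simp only [rt, mul_pow, ← pow_mul, mul_comm j, hr]
    rw [pow_mul, hζ.pow_eq_one, one_pow, one_mul]
  let σ : ℕ → AdjoinRoot (pol N c) →+* L := fun j => AdjoinRoot.lift (algebraMap K L) (rt j)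
    (by rw [eval₂_sub, eval₂_X_pow, eval₂_C, hrt, sub_eq_zero, ← IsScalarTower.algebraMap_apply A K L])
  have hint : ∀ j, IsIntegral A (σ j y) := fun j => by
    refine ⟨p, hp, ?_⟩
    have h1 := congrArg (σ j) hy
    rw [hom_eval₂, map_zero] at h1
    rw [← h1]
    congr 1
    refine RingHom.ext fun a => ?_
    have e1 : σ j (AdjoinRoot.of (pol N c) (algebraMap A K a)) = algebraMap K L (algebraMap A K a) :=
      AdjoinRoot.lift_of _
    exact ((IsScalarTower.algebraMap_apply A K L a).trans e1.symm)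
  have hrtint : ∀ j, IsIntegral A (rt j) := fun j =>
    IsIntegral.of_pow hN (by rw [hrt]; exact isIntegral_algebraMap)
  have hσ : ∀ j, σ j y = ∑ m, algebraMap K L ((coord hN c).repr y m) * rt j ^ (m : ℕ) := fun j => by
    conv_lhs => rw [← (coord hN c).sum_repr y, map_sum]
    refine Finset.sum_congr rfl fun m _ => ?_
    rw [coord_apply, Algebra.smul_def, map_mul, map_pow]
    simp only [σ, AdjoinRoot.algebraMap_eq, AdjoinRoot.lift_of, AdjoinRoot.lift_root]
  have hkey : (∑ j ∈ Finset.range N, σ j y * rt j ^ (N - (i : ℕ))) =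
      algebraMap K L ((coord hN c).repr y i) * ((N : L) * algebraMap A L f) := by
    calc (∑ j ∈ Finset.range N, σ j y * rt j ^ (N - (i : ℕ)))
        = ∑ m, algebraMap K L ((coord hN c).repr y m) * r ^ ((m : ℕ) + (N - (i : ℕ))) *
            ∑ j ∈ Finset.range N, (ζ ^ j) ^ ((m : ℕ) + (N - (i : ℕ))) := by
          rw [Finset.sum_congr rfl fun j _ => show σ j y * rt j ^ (N - (i : ℕ)) = _ by rw [hσ j, Finset.sum_mul],
            Finset.sum_comm]
          simp only [Finset.mul_sum]
          exact Finset.sum_congr rfl fun m _ => Finset.sum_congr rfl fun j _ => by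
            simp only [rt, mul_pow, pow_add]; ring
      _ = _ := by
          rw [Finset.sum_eq_single i (fun m _ hm => by rw [sum_root_pow hζ hN, if_neg hm, mul_zero])
            (fun h => absurd (Finset.mem_univ i) h), sum_root_pow hζ hN, if_pos rfl,
            show (i : ℕ) + (N - (i : ℕ)) = N by omega, hr]
          ring
  have h2 : IsIntegral A (algebraMap K L ((coord hN c).repr y i) * ((N : L) * algebraMap A L f)) := by
    rw [← hkey]
    exact IsIntegral.sum _ fun j _ => (hint j).mul ((hrtint j).pow _)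
  have h3 := h2.mul (isIntegral_algebraMap (R := A) (A := L) (x := (↑(n' * u)⁻¹ : A)))
  rw [mul_assoc, ← hNL, ← hu, ← map_mul, ← map_mul, ← Units.val_mul, Units.mul_inv, map_one, mul_one] at h3
  exact (isIntegral_algHom_iff (IsScalarTower.toAlgHom A K L) (algebraMap K L).injective).1 h3

/-- A reduced integral extension of `A` birational to `A[T]/(T^N - f)` equals it. -/
theorem bijective_of_generic [IsFractionRing A K] [IsDomain A] [IsIntegrallyClosed A] (hN : 0 < N) (f : A)
    (hf : IsUnit f) (hNA : IsUnit (N : A)) {B : Type u} [CommRing B] (φ : AdjoinRoot (pol N f) →+* B) (g : A)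
    (hg : g ≠ 0) (hgB : ∀ b : B, φ (AdjoinRoot.of _ g) * b = 0 → b = 0) (hinj : Function.Injective φ)
    (hloc : ∀ b : B, ∃ (m : ℕ) (z : AdjoinRoot (pol N f)), φ (AdjoinRoot.of _ g) ^ m * b = φ z)
    (hint : (φ.comp (AdjoinRoot.of _)).IsIntegral) : Function.Bijective φ := by
  refine ⟨hinj, fun b => ?_⟩
  obtain ⟨m, z, hz⟩ := hloc b
  obtain ⟨p, hp, hpb⟩ := hint b
  have hκ : Function.Injective (algebraMap A K) := IsFractionRing.injective A K
  let c := algebraMap A K f
  have hb1 : algebraMap A K f = (1 : K) ^ N * c := by rw [one_pow, one_mul]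
  let θ := theta (d := N) c (algebraMap A K) f 1 hb1
  have hθ : Function.Injective θ := theta_injective hN c _ f 1 hb1 hκ one_ne_zero
  have hgm : algebraMap A K (g ^ m) ≠ 0 := (map_ne_zero_iff _ hκ).2 (pow_ne_zero _ hg)
  -- `θ z / g ^ m` is integral
  let y := AdjoinRoot.of (pol N c) (algebraMap A K (g ^ m))⁻¹ * θ z
  have hz0 : (p.scaleRoots (g ^ m)).eval₂ (AdjoinRoot.of (pol N f)) z = 0 := by
    refine hinj ?_
    rw [map_zero, hom_eval₂, ← hz, ← map_pow, ← map_pow, ← RingHom.comp_apply, scaleRoots_eval₂_mul, hpb, mul_zero]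
  have hy : p.eval₂ ((AdjoinRoot.of (pol N c)).comp (algebraMap A K)) y = 0 := by
    have h1 := congrArg θ hz0
    rw [hom_eval₂, map_zero] at h1
    rw [show θ.comp (AdjoinRoot.of (pol N f)) = (AdjoinRoot.of (pol N c)).comp (algebraMap A K) from
      RingHom.ext fun a => theta_of c (algebraMap A K) f 1 hb1 a] at h1
    have h2 : θ z = ((AdjoinRoot.of (pol N c)).comp (algebraMap A K)) (g ^ m) * y := by
      simp only [y, RingHom.comp_apply]
      rw [← mul_assoc, ← map_mul, mul_inv_cancel₀ hgm, map_one, one_mul]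
    rw [h2, scaleRoots_eval₂_mul] at h1
    exact (((IsUnit.mk0 _ hgm).map (AdjoinRoot.of (pol N c))).pow p.natDegree).mul_right_eq_zero.1 h1
  choose a ha using fun i => IsIntegrallyClosed.isIntegral_iff.1 (isIntegral_coord (K := K) hN f hf hNA p hp hy i)
  obtain ⟨z', hz'⟩ : ∃ z', θ z' = y := (mem_range_theta_iff hN c (algebraMap A K) f 1 hb1 one_ne_zero y).2
    fun i => ⟨a i, by rw [one_pow, mul_one]; exact ha i⟩
  refine ⟨z', ?_⟩
  have h3 : z = AdjoinRoot.of _ (g ^ m) * z' := by
    refine hθ ?_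
    rw [map_mul, hz', theta_of]
    simp only [y]
    rw [← mul_assoc, ← map_mul, mul_inv_cancel₀ hgm, map_one, one_mul]
  have h4 : φ (AdjoinRoot.of _ g) ^ m * (φ z' - b) = 0 := by
    rw [mul_sub, hz, h3, map_mul, map_pow, map_pow, sub_self]
  have h5 : ∀ n : ℕ, ∀ w : B, φ (AdjoinRoot.of _ g) ^ n * w = 0 → w = 0 := fun n => by
    induction n with
    | zero => intro w hw; simpa using hw
    | succ n ih => intro w hw; rw [pow_succ, mul_assoc] at hw; exact hgB _ (ih _ hw)
  exact sub_eq_zero.1 (h5 m _ h4)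

end Groth.Agent.CycCov12
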