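import Groth.Agent.Lib.CycCover13.Alg
import Mathlib.RingTheory.RingHom.Etale
import Mathlib.Algebra.DualNumber
import Mathlib.RingTheory.Localization.Away.Basic

/-!
# Étale coordinates on a Kummer extension along a coordinate
-/

set_option autoImplicit false
set_option backward.isDefEq.respectTransparency false
set_option linter.style.haveILetI false
set_option maxHeartbeats 1000000

universe u

open MvPolynomial

namespace Groth.Agent.CycCov12

open Groth.Agent.CycCover13

section Lifts

variable {k A : Type u} [CommRing k] [CommRing A] [Algebra k A] {σ : Type u}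
  (θ : MvPolynomial σ k →ₐ[k] A) (hθ : θ.toRingHom.Etale)

include hθ in
/-- A square-zero lift is determined by, and exists for any, values of the coordinates. -/
theorem existsUnique_lift {C : Type u} [CommRing C] [Algebra k C] (I : Ideal C) (hI : I ^ 2 = ⊥)
    (g : A →ₐ[k] C ⧸ I) (z : σ → C) (hz : ∀ i, Ideal.Quotient.mk I (z i) = g (θ (X i))) :
    (∃ l : A →ₐ[k] C, (∀ x, Ideal.Quotient.mk I (l x) = g x) ∧ ∀ i, l (θ (X i)) = z i) ∧
      ∀ l l' : A →ₐ[k] C, (∀ x, Ideal.Quotient.mk I (l x) = g x) → (∀ x, Ideal.Quotient.mk I (l' x) = g x) →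
        (∀ i, l (θ (X i)) = z i) → (∀ i, l' (θ (X i)) = z i) → l = l' := by
  letI : Algebra (MvPolynomial σ k) A := θ.toRingHom.toAlgebra
  letI : Algebra (MvPolynomial σ k) C := (aeval z : MvPolynomial σ k →ₐ[k] C).toRingHom.toAlgebra
  haveI : Algebra.Etale (MvPolynomial σ k) A := hθ
  have hg : (Ideal.Quotient.mkₐ k I).comp (aeval z) = g.comp θ := algHom_ext fun i => by
    show Ideal.Quotient.mk I (aeval z (X i)) = g (θ (X i))
    rw [aeval_X]
    exact hz i
  let g' : A →ₐ[MvPolynomial σ k] C ⧸ I :=
    { g.toRingHom with commutes' := fun p => (AlgHom.congr_fun hg p).symm }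
  have hbij := Algebra.FormallyEtale.comp_bijective (MvPolynomial σ k) A I hI
  have lift' : ∀ l : A →ₐ[k] C, (∀ i, l (θ (X i)) = z i) → ∀ p, l (θ p) = aeval z p := fun l hl p =>
    AlgHom.congr_fun (algHom_ext (f := l.comp θ) (g := aeval z) fun i => by
      rw [aeval_X]; exact hl i) p
  refine ⟨?_, fun l l' hl hl' hlz hlz' => ?_⟩
  · obtain ⟨L, hL⟩ := hbij.2 g'
    have hc : ∀ c : k, L (algebraMap k A c) = algebraMap k C c := fun c => by
      have h1 := L.commutes (MvPolynomial.C c)
      change L (θ (MvPolynomial.C c)) = aeval z (MvPolynomial.C c) at h1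
      rwa [← algebraMap_eq, θ.commutes, AlgHom.commutes] at h1
    refine ⟨{ L.toRingHom with commutes' := hc }, fun x => AlgHom.congr_fun hL x, fun i => ?_⟩
    exact (L.commutes (X i)).trans (aeval_X z i)
  · let M : A →ₐ[MvPolynomial σ k] C := { l.toRingHom with commutes' := lift' l hlz }
    let M' : A →ₐ[MvPolynomial σ k] C := { l'.toRingHom with commutes' := lift' l' hlz' }
    have h : M = M' := hbij.1 (AlgHom.ext fun x => (hl x).trans (hl' x).symm)
    exact AlgHom.ext fun x => AlgHom.congr_fun h x

include hθ in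
/-- The partial derivative along a coordinate. -/
theorem exists_partial [DecidableEq σ] (j : σ) :
    ∃ dd : A → A, (∀ a b, dd (a + b) = dd a + dd b) ∧ (∀ a b, dd (a * b) = a * dd b + b * dd a) ∧
      (∀ c, dd (algebraMap k A c) = 0) ∧ ∀ i, dd (θ (X i)) = if i = j then 1 else 0 := by
  let z : σ → DualNumber A := fun i =>
    TrivSqZeroExt.inl (θ (X i)) + TrivSqZeroExt.inr (if i = j then 1 else 0)
  let P := MvPolynomial σ k
  letI : Algebra P A := θ.toRingHom.toAlgebra
  let h : P →ₐ[k] DualNumber A := aeval z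
  letI : Algebra P (DualNumber A) := h.toRingHom.toAlgebra
  haveI : Algebra.Etale P A := hθ
  have hfst : ∀ p, (h p).fst = θ p := fun p =>
    AlgHom.congr_fun (algHom_ext (f := (TrivSqZeroExt.fstHom k A A).comp h) (g := θ) fun i => by
      show (h (X i)).fst = θ (X i)
      rw [show h (X i) = z i from aeval_X z i]
      simp only [z]
      split_ifs <;> simp) p
  let π₀ : DualNumber A →ₐ[P] A :=
    { (TrivSqZeroExt.fstHom k A A).toRingHom with commutes' := fun p => hfst p }
  have hπ₀ : Function.Surjective π₀ := fun a => ⟨TrivSqZeroExt.inl a, rfl⟩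
  have hker : IsNilpotent (RingHom.ker (π₀ : DualNumber A →+* A)) := by
    refine ⟨2, (pow_two (RingHom.ker (π₀ : DualNumber A →+* A))).trans ?_⟩
    rw [Submodule.zero_eq_bot, eq_bot_iff, Ideal.mul_le]
    intro a ha b hb
    have ha' : a.fst = 0 := ha
    have hb' : b.fst = 0 := hb
    rw [Ideal.mem_bot]
    refine TrivSqZeroExt.ext ?_ ?_ <;> simp [ha', hb']
  let L := Algebra.FormallySmooth.liftOfSurjective (AlgHom.id P A) π₀ hπ₀ hker
  have hL : ∀ a, (L a).fst = a := fun a =>
    AlgHom.congr_fun (Algebra.FormallySmooth.comp_liftOfSurjective (AlgHom.id P A) π₀ hπ₀ hker) a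
  refine ⟨fun a => (L a).snd, fun a b => by simp only [map_add, TrivSqZeroExt.snd_add], fun a b => ?_,
    fun c => ?_, fun i => ?_⟩
  · simp only [map_mul, TrivSqZeroExt.snd_mul, hL, smul_eq_mul, op_smul_eq_smul]
  · have h1 := L.commutes (MvPolynomial.C c)
    change L (θ (MvPolynomial.C c)) = h (MvPolynomial.C c) at h1
    rw [← algebraMap_eq, θ.commutes, AlgHom.commutes] at h1
    show (L (algebraMap k A c)).snd = 0
    rw [h1]
    rfl
  · have h1 := L.commutes (X i)
    change L (θ (X i)) = h (X i) at h1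
    show (L (θ (X i))).snd = _
    rw [h1, show h (X i) = z i from aeval_X z i]
    simp only [z]
    split_ifs <;> simp

end Lifts

section Kummer

variable {k A : Type u} [CommRing k] [CommRing A] [Algebra k A] {σ : Type u} [DecidableEq σ]
  (θ : MvPolynomial σ k →ₐ[k] A) (hθ : θ.toRingHom.Etale)

/-- The coordinates of `A[T]/(T^n - u v)`: replace `v` by `T`. -/
noncomputable def rootCoord (j : σ) (u : A) (n : ℕ) : MvPolynomial σ k →ₐ[k] AdjoinRoot (pol n (u * θ (X j))) :=
  aeval (Function.update (fun i => AdjoinRoot.of (pol n (u * θ (X j))) (θ (X i))) j (AdjoinRoot.root _))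

theorem isUnit_of_mk {C : Type u} [CommRing C] (I : Ideal C) (hI : I ^ 2 = ⊥) {x : C}
    (hx : IsUnit (Ideal.Quotient.mk I x)) : IsUnit x := by
  obtain ⟨y, hy⟩ := isUnit_iff_exists_inv.1 hx
  obtain ⟨y, rfl⟩ := Ideal.Quotient.mk_surjective y
  have hmem : x * y - 1 ∈ I := by
    rw [← Ideal.Quotient.eq, map_mul, map_one, hy]
  have h2 : (x * y - 1) ^ 2 = 0 := by
    have := Ideal.pow_mem_pow hmem 2
    rwa [hI, Ideal.mem_bot] at this
  refine isUnit_iff_exists_inv.2 ⟨y * (2 - x * y), ?_⟩
  linear_combination -h2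

include hθ in
/-- Away from the ramification of the projection, `(T, others)` are étale coordinates. -/
theorem exists_etale_rootCoord [Algebra.FinitePresentation k A] [Finite σ] (j : σ) (u : A) (n : ℕ) :
    ∃ δ : A, θ (X j) ∣ δ - u ∧
      ((algebraMap (AdjoinRoot (pol n (u * θ (X j))))
          (Localization.Away (AdjoinRoot.of (pol n (u * θ (X j))) δ))).comp (rootCoord θ j u n).toRingHom).Etale := by
  obtain ⟨dd, hadd, hmul, hC, hX⟩ := exists_partial θ hθ j
  let v := θ (X j)
  let F := pol n (u * v)
  let B := AdjoinRoot F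
  let δ := u + v * dd u
  refine ⟨δ, ⟨dd u, by simp [δ, v]⟩, ?_⟩
  have hdd : dd (u * v) = δ := by
    rw [hmul, show dd v = 1 from (hX j).trans (if_pos rfl), mul_one]
  let Bd := Localization.Away (AdjoinRoot.of F δ)
  let ψ : MvPolynomial σ k →ₐ[k] Bd := (IsScalarTower.toAlgHom k B Bd).comp (rootCoord θ j u n)
  let ιA : A →ₐ[k] Bd := (IsScalarTower.toAlgHom k B Bd).comp (IsScalarTower.toAlgHom k A B)
  letI : Algebra (MvPolynomial σ k) Bd := ψ.toRingHom.toAlgebra
  haveI : IsScalarTower k (MvPolynomial σ k) Bd := IsScalarTower.of_algebraMap_eq' ψ.comp_algebraMap.symm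
  show (algebraMap (MvPolynomial σ k) Bd).Etale
  rw [RingHom.etale_algebraMap]
  haveI : Algebra.FinitePresentation k Bd := by
    haveI : Algebra.FinitePresentation A B :=
      Algebra.FinitePresentation.quotient (Submodule.fg_span_singleton _)
    haveI : Algebra.FinitePresentation k B := Algebra.FinitePresentation.trans k A B
    haveI : Algebra.FinitePresentation B Bd := IsLocalization.Away.finitePresentation (AdjoinRoot.of F δ)
    exact Algebra.FinitePresentation.trans k B Bd
  haveI : Algebra.FinitePresentation (MvPolynomial σ k) Bd :=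
    Algebra.FinitePresentation.of_restrict_scalars_finitePresentation k (MvPolynomial σ k) Bd
  haveI : Algebra.FormallyEtale (MvPolynomial σ k) Bd := by
    refine Algebra.FormallyEtale.iff_comp_bijective.mpr fun C _ _ I hI => ?_
    letI : Algebra k C := ((algebraMap (MvPolynomial σ k) C).comp (algebraMap k (MvPolynomial σ k))).toAlgebra
    haveI : IsScalarTower k (MvPolynomial σ k) C := IsScalarTower.of_algebraMap_eq' rfl
    let ρ := IsScalarTower.toAlgHom k (MvPolynomial σ k) C
    let s := ρ (X j)
    have hψj : ψ (X j) = algebraMap B Bd (AdjoinRoot.root F) := by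
      simp [ψ, rootCoord, B, F, v]
    have hψi : ∀ i, i ≠ j → ψ (X i) = ιA (θ (X i)) := fun i hi => by
      simp [ψ, ιA, rootCoord, hi, B, F, v]
    have hroot : algebraMap B Bd (AdjoinRoot.root F) ^ n = ιA (u * v) := by
      rw [← map_pow]
      have h := AdjoinRoot.eval₂_root F
      rw [show F = pol n (u * v) from rfl, Polynomial.eval₂_sub, Polynomial.eval₂_X_pow, Polynomial.eval₂_C,
        sub_eq_zero] at h
      rw [h]
      rfl
    have hεI : ∀ {a b : C}, a ∈ I → b ∈ I → a * b = 0 := fun {a b} ha hb => by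
      have := Ideal.mul_mem_mul ha hb
      rwa [← pow_two, hI, Ideal.mem_bot] at this
    -- first order Taylor expansion
    have taylor : ∀ (l : A →ₐ[k] C) (ε : C), ε ∈ I →
        ∃ l' : A →ₐ[k] C, ∀ a, l' a = l a + ε * l (dd a) := fun l ε hε => by
      refine ⟨{ toFun := fun a => l a + ε * l (dd a), map_one' := ?_, map_mul' := fun a b => ?_, map_zero' := ?_,
                map_add' := fun a b => ?_, commutes' := fun c => ?_ }, fun a => rfl⟩
      · rw [← map_one (algebraMap k A), hC, map_zero, mul_zero, add_zero, AlgHom.commutes, map_one]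
      · rw [hmul, map_add, map_mul, map_mul, map_mul]
        linear_combination -(l (dd a) * l (dd b)) * (hεI hε hε)
      · rw [map_zero, ← map_zero (algebraMap k A), hC]
        simp
      · rw [hadd, map_add, map_add]; ring
      · rw [hC, map_zero, mul_zero, add_zero, AlgHom.commutes]
    refine ⟨fun K₁ K₂ hK => ?_, fun g => ?_⟩
    · have hmk : ∀ x, Ideal.Quotient.mk I (K₁ x) = Ideal.Quotient.mk I (K₂ x) := fun x => AlgHom.congr_fun hK x
      let l₁ : A →ₐ[k] C := (K₁.restrictScalars k).comp ιA
      let l₂ : A →ₐ[k] C := (K₂.restrictScalars k).comp ιA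
      let ε := l₂ v - l₁ v
      have hε : ε ∈ I := by
        rw [← Ideal.Quotient.eq]
        exact (hmk _).symm
      obtain ⟨l, hl⟩ := taylor l₁ ε hε
      have hlI : ∀ a, Ideal.Quotient.mk I (l a) = Ideal.Quotient.mk I (l₁ a) := fun a => by
        rw [hl, map_add, map_mul, Ideal.Quotient.eq_zero_iff_mem.2 hε, zero_mul, add_zero]
      have hcoord : ∀ (K : Bd →ₐ[MvPolynomial σ k] C) i, i ≠ j → K (ιA (θ (X i))) = ρ (X i) := fun K i hi => by
        rw [← hψi i hi]
        exact K.commutes (X i)
      have h12 : l₂ = l := by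
        refine ((existsUnique_lift θ hθ I hI ((Ideal.Quotient.mkₐ k I).comp l₂) (fun i => l₂ (θ (X i)))
          fun i => rfl).2 l₂ l (fun x => rfl) (fun x => (hlI x).trans (hmk _)) (fun i => rfl) fun i => ?_)
        rw [hl, hX]
        split_ifs with hi
        · subst hi
          simp only [ε, v, map_one]
          ring
        · rw [map_zero, mul_zero, add_zero]
          exact (hcoord K₁ i hi).trans (hcoord K₂ i hi).symm
      have hs : ∀ K : Bd →ₐ[MvPolynomial σ k] C, K (algebraMap B Bd (AdjoinRoot.root F)) = s := fun K => by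
        rw [← hψj]
        exact K.commutes (X j)
      have hpow : ∀ K : Bd →ₐ[MvPolynomial σ k] C, K (ιA (u * v)) = s ^ n := fun K => by
        rw [← hroot, map_pow, hs]
      have h0 : ε * l₁ δ = 0 := by
        have h1 : l₂ (u * v) = l₁ (u * v) := (hpow K₂).trans (hpow K₁).symm
        rw [h12, hl, hdd, add_eq_left] at h1
        exact h1
      have hε0 : ε = 0 :=
        ((IsLocalization.Away.algebraMap_isUnit (S := Bd) (AdjoinRoot.of F δ)).map K₁).mul_left_eq_zero.1 h0
      have hll : l₁ = l₂ := by
        rw [h12]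
        exact AlgHom.ext fun a => by rw [hl, hε0, zero_mul, add_zero]
      refine AlgHom.ext fun x => RingHom.congr_fun (IsLocalization.ringHom_ext (Submonoid.powers (AdjoinRoot.of F δ))
        (j := K₁.toRingHom) (k := K₂.toRingHom) ?_) x
      refine AdjoinRoot.ringHom_ext (RingHom.ext fun a => AlgHom.congr_fun hll a) ?_
      exact (hs K₁).trans (hs K₂).symm
    · let gk : Bd →ₐ[k] C ⧸ I := g.restrictScalars k
      let gA : A →ₐ[k] C ⧸ I := gk.comp ιA
      have hgρ : ∀ p, gk (ψ p) = Ideal.Quotient.mk I (ρ p) := fun p => g.commutes p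
      obtain ⟨y, hy⟩ := Ideal.Quotient.mk_surjective (gA v)
      obtain ⟨⟨l₀, hl₀, hl₀z⟩, -⟩ := existsUnique_lift θ hθ I hI gA (Function.update (fun i => ρ (X i)) j y)
        fun i => by
          by_cases hi : i = j
          · subst hi; rw [Function.update_self]; exact hy
          · rw [Function.update_of_ne hi, ← hgρ, hψi i hi]; rfl
      obtain ⟨e, he⟩ : IsUnit (l₀ δ) := isUnit_of_mk I hI (by
        rw [hl₀]
        exact (IsLocalization.Away.algebraMap_isUnit (S := Bd) (AdjoinRoot.of F δ)).map gk)
      let ε := -(l₀ (u * v) - s ^ n) * (↑e⁻¹ : C)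
      have hdiff : l₀ (u * v) - s ^ n ∈ I := by
        rw [← Ideal.Quotient.eq, hl₀, map_pow, ← hgρ, ← map_pow, hψj, hroot]
        rfl
      have hε : ε ∈ I := Ideal.mul_mem_right _ _ (neg_mem hdiff)
      obtain ⟨l, hl⟩ := taylor l₀ ε hε
      have hlI : ∀ a, Ideal.Quotient.mk I (l a) = gA a := fun a => by
        rw [hl, map_add, map_mul, Ideal.Quotient.eq_zero_iff_mem.2 hε, zero_mul, add_zero, hl₀]
      have hlF : Polynomial.eval₂ l.toRingHom s F = 0 := by
        rw [show F = pol n (u * v) from rfl, Polynomial.eval₂_sub, Polynomial.eval₂_X_pow, Polynomial.eval₂_C]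
        show s ^ n - l (u * v) = 0
        rw [hl, hdd, ← he]
        simp only [ε]
        linear_combination (l₀ (u * v) - s ^ n) * e.inv_mul
      let K₀ : B →+* C := AdjoinRoot.lift l.toRingHom s hlF
      have hK₀δ : IsUnit (K₀ (AdjoinRoot.of F δ)) := by
        rw [show K₀ (AdjoinRoot.of F δ) = l δ from AdjoinRoot.lift_of hlF]
        exact isUnit_of_mk I hI (by
          rw [hlI]
          exact (IsLocalization.Away.algebraMap_isUnit (S := Bd) (AdjoinRoot.of F δ)).map gk)
      let K : Bd →+* C := IsLocalization.Away.lift (AdjoinRoot.of F δ) hK₀δ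
      have hKB : ∀ x, K (algebraMap B Bd x) = K₀ x := fun x => IsLocalization.Away.lift_eq _ hK₀δ x
      have hKA : ∀ a, K (ιA a) = l a := fun a => (hKB _).trans (AdjoinRoot.lift_of hlF)
      have hcomm : ∀ p, K (ψ p) = ρ p := fun p => by
        have h1 : (K.comp ψ.toRingHom) = ρ.toRingHom := by
          refine MvPolynomial.ringHom_ext (fun c => ?_) fun i => ?_
          · show K (ψ (MvPolynomial.C c)) = ρ (MvPolynomial.C c)
            rw [← algebraMap_eq, AlgHom.commutes, AlgHom.commutes, ← l.commutes, ← ιA.commutes, hKA]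
          · show K (ψ (X i)) = ρ (X i)
            by_cases hi : i = j
            · subst hi
              rw [hψj, hKB]
              exact AdjoinRoot.lift_root hlF
            · rw [hψi i hi, hKA, hl, hX, if_neg hi, map_zero, mul_zero, add_zero, hl₀z, Function.update_of_ne hi]
        exact RingHom.congr_fun h1 p
      refine ⟨{ K with commutes' := hcomm }, AlgHom.ext fun x => RingHom.congr_fun (IsLocalization.ringHom_ext
        (Submonoid.powers (AdjoinRoot.of F δ)) (j := (Ideal.Quotient.mk I).comp K) (k := g.toRingHom) ?_) x⟩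
      refine AdjoinRoot.ringHom_ext (RingHom.ext fun a => ?_) ?_
      · show Ideal.Quotient.mk I (K (ιA a)) = g (ιA a)
        rw [hKA, hlI]
        rfl
      · show Ideal.Quotient.mk I (K (algebraMap B Bd (AdjoinRoot.root F))) = g (algebraMap B Bd (AdjoinRoot.root F))
        rw [hKB, show K₀ (AdjoinRoot.root F) = s from AdjoinRoot.lift_root hlF, ← hψj]
        exact (hgρ (X j)).symm
  exact ⟨inferInstance, inferInstance⟩

end Kummer

end Groth.Agent.CycCov12
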