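import Groth.Agent.Lib.CycCover13.Alg
import Groth.Agent.Lib.NormalSmooth12.Basic
import Mathlib.RingTheory.Smooth.Basic
import Mathlib.RingTheory.RingHom.Smooth
import Mathlib.RingTheory.MvPolynomial.Basic
import Mathlib.RingTheory.Localization.FractionRing

/-!
# Kummer extensions along a coordinate, and normal rings
-/

set_option autoImplicit false
set_option backward.isDefEq.respectTransparency false
set_option linter.style.haveILetI false

universe u

open MvPolynomial

namespace Groth.Agent.CycCov12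

open Groth.Agent.CycCover13

section Lift

variable {R A : Type u} [CommRing R] [CommRing A] [Algebra R A] {σ : Type u}
  (θ : MvPolynomial σ R →ₐ[R] A) (hθ : θ.toRingHom.FormallySmooth)

include hθ in
/-- Lifts along a square-zero extension with a prescribed value on one coordinate. -/
theorem exists_lift {C : Type u} [CommRing C] [Algebra R C] (I : Ideal C) (hI : I ^ 2 = ⊥)
    (g : A →ₐ[R] C ⧸ I) (e : σ) (y : C) (hy : Ideal.Quotient.mk I y = g (θ (X e))) :
    ∃ k : A →ₐ[R] C, (∀ x, Ideal.Quotient.mk I (k x) = g x) ∧ k (θ (X e)) = y := by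
  classical
  choose z hz using fun j => Ideal.Quotient.mk_surjective (g (θ (X j)))
  let h : MvPolynomial σ R →ₐ[R] C := aeval (Function.update z e y)
  have hhθ : (Ideal.Quotient.mkₐ R I).comp h = g.comp θ := by
    refine MvPolynomial.algHom_ext fun j => ?_
    show Ideal.Quotient.mk I (h (X j)) = g (θ (X j))
    rw [aeval_X]
    by_cases hj : j = e
    · subst hj
      rw [Function.update_self]
      exact hy
    · rw [Function.update_of_ne hj]
      exact hz j
  letI : Algebra (MvPolynomial σ R) A := θ.toRingHom.toAlgebra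
  letI : Algebra (MvPolynomial σ R) C := h.toRingHom.toAlgebra
  haveI : Algebra.FormallySmooth (MvPolynomial σ R) A := hθ
  let g' : A →ₐ[MvPolynomial σ R] C ⧸ I :=
    { g.toRingHom with commutes' := fun p => (AlgHom.congr_fun hhθ p).symm }
  obtain ⟨k, hk⟩ := Algebra.FormallySmooth.comp_surjective (MvPolynomial σ R) A I hI g'
  have hkR : ∀ r : R, k (algebraMap R A r) = algebraMap R C r := fun r => by
    have h1 := k.commutes (MvPolynomial.C r)
    change k (θ (MvPolynomial.C r)) = h (MvPolynomial.C r) at h1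
    rwa [← algebraMap_eq, θ.commutes, h.commutes] at h1
  refine ⟨{ k.toRingHom with commutes' := hkR }, fun x => AlgHom.congr_fun hk x, ?_⟩
  refine (k.commutes (X e)).trans ?_
  show h (X e) = y
  rw [aeval_X, Function.update_self]

include hθ in
/-- Adjoining an `n`-th root of `u v`, `v` a coordinate and `u`, `n` units. -/
theorem formallySmooth_adjoinRoot (e : σ) (u : A) (hu : IsUnit u) {n : ℕ} (hn : IsUnit (n : A)) :
    Algebra.FormallySmooth R (AdjoinRoot (pol n (u * θ (X e)))) := by
  refine Algebra.FormallySmooth.iff_comp_surjective.mpr fun C _ _ I hI g => ?_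
  let v := θ (X e)
  let F := pol n (u * v)
  let gA : A →ₐ[R] C ⧸ I := g.comp (IsScalarTower.toAlgHom R A (AdjoinRoot F))
  obtain ⟨c, hc⟩ := Ideal.Quotient.mk_surjective (g (AdjoinRoot.root F))
  obtain ⟨y₀, hy₀⟩ := Ideal.Quotient.mk_surjective (gA v)
  obtain ⟨k₀, hk₀, -⟩ := exists_lift θ hθ I hI gA e y₀ hy₀
  obtain ⟨u0, hu0⟩ := hu.map k₀
  have hroot : AdjoinRoot.root F ^ n = AdjoinRoot.of F (u * v) := by
    have h := AdjoinRoot.eval₂_root F
    rwa [show F = pol n (u * v) from rfl, Polynomial.eval₂_sub, Polynomial.eval₂_X_pow, Polynomial.eval₂_C,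
      sub_eq_zero] at h
  have hcv : Ideal.Quotient.mk I (c ^ n) = gA u * gA v := by
    rw [map_pow, hc, ← map_pow, hroot, ← map_mul]
    rfl
  obtain ⟨k, hk, hkv⟩ := exists_lift θ hθ I hI gA e (c ^ n * (↑u0⁻¹ : C)) (by
    rw [map_mul, hcv]
    have h1 : gA u * Ideal.Quotient.mk I (↑u0⁻¹ : C) = 1 := by
      rw [← hk₀ u, ← hu0, ← map_mul, Units.mul_inv, map_one]
    show gA u * gA v * _ = gA v
    rw [mul_right_comm, h1, one_mul])
  obtain ⟨n', hn'⟩ := hn.map k
  let ε : C := (k u - u0) * (↑u0⁻¹ : C) * (↑n'⁻¹ : C)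
  have hεI : ε ∈ I := by
    refine Ideal.mul_mem_right _ _ (Ideal.mul_mem_right _ _ ?_)
    rw [← Ideal.Quotient.eq, hk, hu0, hk₀]
  have hε2 : ε ^ 2 = 0 := by
    have := Ideal.pow_mem_pow hεI 2
    rwa [hI, Ideal.mem_bot] at this
  have hpow : ∀ m : ℕ, (1 + ε) ^ m = 1 + (m : C) * ε := fun m => by
    induction m with
    | zero => simp
    | succ m ih =>
      rw [pow_succ, ih]
      push_cast
      linear_combination (m : C) * hε2
  have hnC : (n : C) * (↑n'⁻¹ : C) = 1 := by rw [← map_natCast k n, ← hn', Units.mul_inv]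
  have hS : (c * (1 + ε)) ^ n = k (u * v) := by
    rw [mul_pow, hpow, map_mul, hkv]
    simp only [ε]
    linear_combination (c ^ n * (k u - u0) * (↑u0⁻¹ : C)) * hnC - c ^ n * u0.mul_inv
  have hF : Polynomial.eval₂ k.toRingHom (c * (1 + ε)) F = 0 := by
    show Polynomial.eval₂ k.toRingHom _ (pol n (u * v)) = 0
    rw [Polynomial.eval₂_sub, Polynomial.eval₂_X_pow, Polynomial.eval₂_C, sub_eq_zero]
    exact hS
  let L := AdjoinRoot.liftAlgHom F k (c * (1 + ε)) hF
  have hLof : ∀ a, L (AdjoinRoot.of F a) = k a := fun a => AdjoinRoot.lift_of hF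
  have hLroot : L (AdjoinRoot.root F) = c * (1 + ε) := AdjoinRoot.lift_root hF
  refine ⟨L, AlgHom.ext fun z => ?_⟩
  obtain ⟨p, rfl⟩ := AdjoinRoot.mk_surjective z
  show Ideal.Quotient.mk I (L (AdjoinRoot.mk F p)) = g (AdjoinRoot.mk F p)
  induction p using Polynomial.induction_on' with
  | add p q hp hq => simp only [map_add, hp, hq]
  | monomial m a =>
    simp only [← Polynomial.C_mul_X_pow_eq_monomial, map_mul, map_pow, AdjoinRoot.mk_C, AdjoinRoot.mk_X,
      hLof, hLroot]
    congr 1
    · exact hk a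
    · rw [map_add, map_one, (Ideal.Quotient.eq_zero_iff_mem).2 hεI, add_zero, mul_one, hc]

include hθ in
/-- The coordinate hyperplane is formally smooth. -/
theorem formallySmooth_quotient (e : σ) : Algebra.FormallySmooth R (A ⧸ Ideal.span {θ (X e)}) := by
  refine Algebra.FormallySmooth.iff_comp_surjective.mpr fun C _ _ I hI g => ?_
  obtain ⟨k, hk, hkv⟩ := exists_lift θ hθ I hI (g.comp (Ideal.Quotient.mkₐ R _)) e 0 (by
    rw [map_zero, AlgHom.comp_apply, Ideal.Quotient.mkₐ_eq_mk,
      (Ideal.Quotient.eq_zero_iff_mem).2 (Ideal.mem_span_singleton_self _), map_zero])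
  refine ⟨Ideal.Quotient.liftₐ _ k fun a ha => ?_, AlgHom.ext fun z => ?_⟩
  · obtain ⟨b, rfl⟩ := Ideal.mem_span_singleton'.1 ha
    rw [map_mul, hkv, mul_zero]
  · obtain ⟨a, rfl⟩ := Ideal.Quotient.mk_surjective z
    exact hk a

end Lift

section Normal

theorem isReduced_of_isNormalRing {C : Type u} [CommRing C] (hC : EGA4.IsNormalRing C) : _root_.IsReduced C := by
  refine ⟨fun x hx => ?_⟩
  by_contra hne
  obtain ⟨p, hp, hle⟩ := Ideal.exists_le_maximal (LinearMap.ker (LinearMap.toSpanSingleton C C x)) (by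
    rw [Ne, Ideal.eq_top_iff_one]
    simpa using hne)
  haveI := hp.isPrime
  haveI := (hC p).1
  obtain ⟨⟨s, hs⟩, h⟩ := (IsLocalization.map_eq_zero_iff p.primeCompl (Localization.AtPrime p) x).1
    (hx.map (algebraMap C (Localization.AtPrime p))).eq_zero
  exact hs (hle (by simpa using h))

/-- In a normal ring a fraction which is integral over the ring is in the ring. -/
theorem dvd_of_integral {R A : Type u} [CommRing R] [CommRing A] [Algebra A R] (hR : EGA4.IsNormalRing R)
    {x : R} (hx : ∀ s : R, x * s = 0 → s = 0) (y : R) (p : Polynomial A) (hp : p.Monic)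
    (h : ((p.map (algebraMap A R)).scaleRoots x).eval y = 0) : x ∣ y := by
  suffices hJ : (Submodule.comap (LinearMap.toSpanSingleton R R y) (Ideal.span {x})) = (⊤ : Ideal R) by
    have h1 : (1 : R) ∈ Submodule.comap (LinearMap.toSpanSingleton R R y) (Ideal.span {x}) := hJ ▸ Submodule.mem_top
    exact Ideal.mem_span_singleton.1 (by simpa using h1)
  by_contra hne
  obtain ⟨P, hP, hle⟩ := Ideal.exists_le_maximal _ hne
  haveI := hP.isPrime
  haveI := (hR P).1
  haveI := (hR P).2
  let RP := Localization.AtPrime P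
  let K := FractionRing RP
  have hx0 : algebraMap RP K (algebraMap R RP x) ≠ 0 := fun h0 => by
    obtain ⟨⟨s, hs⟩, h1⟩ := (IsLocalization.map_eq_zero_iff P.primeCompl RP x).1
      ((map_eq_zero_iff _ (IsFractionRing.injective RP K)).1 h0)
    exact hs (by rw [hx s (by rw [mul_comm]; exact h1)]; exact zero_mem _)
  let z : K := algebraMap RP K (algebraMap R RP y) / algebraMap RP K (algebraMap R RP x)
  let q : Polynomial RP := (p.map (algebraMap A R)).map (algebraMap R RP)
  have hz : IsIntegral RP z := by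
    refine ⟨q, (hp.map _).map _, ?_⟩
    have h1 : ((p.map (algebraMap A R)).scaleRoots x).eval₂ ((algebraMap RP K).comp (algebraMap R RP))
        (algebraMap RP K (algebraMap R RP y)) = 0 := by
      rw [← RingHom.comp_apply, Polynomial.eval₂_at_apply, h, map_zero]
    rw [show algebraMap RP K (algebraMap R RP y) =
      ((algebraMap RP K).comp (algebraMap R RP)) x * z from (mul_div_cancel₀ _ hx0).symm,
      Polynomial.scaleRoots_eval₂_mul, mul_eq_zero] at h1
    rcases h1 with h1 | h1
    · exact absurd (pow_eq_zero_iff'.1 h1).1 hx0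
    · simp only [q, Polynomial.eval₂_map] at h1 ⊢
      exact h1
  obtain ⟨w, hw⟩ := IsIntegrallyClosed.isIntegral_iff.1 hz
  obtain ⟨⟨r, ⟨s, hs⟩⟩, hr⟩ := IsLocalization.surj P.primeCompl w
  have h2 : algebraMap R RP (y * s) = algebraMap R RP (x * r) := by
    refine IsFractionRing.injective RP K ?_
    rw [map_mul, map_mul, map_mul, map_mul, ← hr, map_mul, hw]
    simp only [z]
    rw [← mul_assoc, mul_div_cancel₀ _ hx0]
  obtain ⟨⟨t, ht⟩, h3⟩ := (IsLocalization.eq_iff_exists P.primeCompl RP).1 h2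
  refine hP.isPrime.mul_notMem ht hs (hle ?_)
  show (t * s) • y ∈ Ideal.span {x}
  rw [Ideal.mem_span_singleton]
  exact ⟨t * r, by rw [smul_eq_mul]; linear_combination h3⟩

end Normal

end Groth.Agent.CycCov12
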