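import Groth.Agent.Lib.CycCov12.Etale
import Groth.Agent.Lib.CycCov12.Smooth
import Groth.Agent.Lib.CycCov12.Coord
import Groth.Agent.Lib.NormalExt19.Basic

/-!
# The normal form of a cyclic cover along one component of the branch divisor
-/

set_option autoImplicit false
set_option backward.isDefEq.respectTransparency false
set_option linter.style.haveILetI false
set_option maxHeartbeats 1000000

universe u

open CategoryTheory AlgebraicGeometry Opposite TopologicalSpace

noncomputable section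

namespace Groth.Agent.CycCov12

open Groth.Agent Groth.Agent.M1 Groth.Agent.CycCover13

theorem root_pow {A : Type u} [CommRing A] (n : ℕ) (f : A) :
    AdjoinRoot.root (pol n f) ^ n = AdjoinRoot.of (pol n f) f := by
  have h := AdjoinRoot.eval₂_root (pol n f)
  rwa [Polynomial.eval₂_sub, Polynomial.eval₂_X_pow, Polynomial.eval₂_C, sub_eq_zero] at h

theorem scaleRoots_pol {A : Type u} [CommRing A] [Nontrivial A] {n : ℕ} (hn : 0 < n) (f x : A) :
    (pol n f).scaleRoots x = pol n (f * x ^ n) := by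
  refine Polynomial.ext fun i => ?_
  rw [Polynomial.coeff_scaleRoots, natDegree_pol hn]
  simp only [pol, Polynomial.coeff_sub, Polynomial.coeff_X_pow, Polynomial.coeff_C]
  rcases eq_or_ne i n with rfl | hi
  · simp [hn.ne']
  · rcases eq_or_ne i 0 with rfl | h0
    · simp [hi]
    · simp [hi, h0]

/-- `R[T]/(T^n - uv)` modulo `T` is `R/(v)`. -/
theorem ker_toQuotient {R : Type u} [CommRing R] {n : ℕ} (hn : 0 < n) (u v : R) (hu : IsUnit u) :
    ∃ π₀ : AdjoinRoot (pol n (u * v)) →+* R ⧸ Ideal.span {v},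
      RingHom.ker π₀ = Ideal.span {AdjoinRoot.root (pol n (u * v))} := by
  let F := pol n (u * v)
  have hev : F.eval₂ (Ideal.Quotient.mk (Ideal.span {v})) 0 = 0 := by
    rw [Polynomial.eval₂_sub, Polynomial.eval₂_X_pow, Polynomial.eval₂_C, zero_pow hn.ne', zero_sub, neg_eq_zero,
      Ideal.Quotient.eq_zero_iff_mem]
    exact Ideal.mul_mem_left _ _ (Ideal.mem_span_singleton_self v)
  refine ⟨AdjoinRoot.lift (Ideal.Quotient.mk _) 0 hev, le_antisymm (fun z hz => ?_) ?_⟩
  · obtain ⟨p, rfl⟩ := AdjoinRoot.mk_surjective z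
    rw [RingHom.mem_ker, AdjoinRoot.lift_mk, Polynomial.eval₂_at_zero, Ideal.Quotient.eq_zero_iff_mem,
      Ideal.mem_span_singleton] at hz
    obtain ⟨r, hr⟩ := hz
    obtain ⟨u', hu'⟩ := hu
    have hv : AdjoinRoot.of F v = AdjoinRoot.of F (↑u'⁻¹ : R) * AdjoinRoot.root F ^ n := by
      rw [root_pow, ← map_mul, ← hu', ← mul_assoc, Units.inv_mul, one_mul]
    rw [Ideal.mem_span_singleton, ← Polynomial.X_mul_divX_add p, map_add, map_mul, AdjoinRoot.mk_X, AdjoinRoot.mk_C,
      hr, map_mul, hv]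
    exact dvd_add (dvd_mul_right _ _) (((dvd_pow_self _ hn.ne').mul_left _).mul_right _)
  · rw [Ideal.span_le, Set.singleton_subset_iff, SetLike.mem_coe, RingHom.mem_ker, AdjoinRoot.lift_root]

theorem isRadical_span_root {R : Type u} [CommRing R] {n : ℕ} (hn : 0 < n) (u v : R) (hu : IsUnit u)
    (hred : _root_.IsReduced (R ⧸ Ideal.span {v})) :
    (Ideal.span {AdjoinRoot.root (pol n (u * v))}).IsRadical := by
  obtain ⟨π₀, hπ₀⟩ := ker_toQuotient hn u v hu
  rw [← hπ₀]
  intro z hz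
  obtain ⟨m, hm⟩ := hz
  exact IsNilpotent.eq_zero ⟨m, by rw [← map_pow]; exact hm⟩

theorem isRadical_span_of_bijective {R S : Type u} [CommRing R] [CommRing S] {χ : R →+* S}
    (hχ : Function.Bijective χ) {x : R} (h : (Ideal.span {x}).IsRadical) : (Ideal.span {χ x}).IsRadical := by
  intro z hz
  obtain ⟨m, hm⟩ := hz
  obtain ⟨z, rfl⟩ := hχ.2 z
  obtain ⟨r, hr⟩ := Ideal.mem_span_singleton.1 hm
  obtain ⟨r, rfl⟩ := hχ.2 r
  rw [← map_pow, ← map_mul] at hr
  exact Ideal.mem_span_singleton.2 (map_dvd χ (Ideal.mem_span_singleton.1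
    (h ⟨m, Ideal.mem_span_singleton.2 ⟨r, hχ.1 hr⟩⟩)))

variable {X Y : Scheme.{u}} [IsIntegral X] {L : X.Modules} {N : ℕ}
  {s : Coh.structureModule X ⟶ CohB1.tensorPow L N} {π : Y ⟶ X} {R : CycCov.Root L N s π}
  (hL : PicF.IsInvertible L) (hN : 0 < N)

theorem isReduced_quotient_coord {k A : Type u} [Field k] [CommRing A] [Algebra k A] [Algebra.FinitePresentation k A]
    {σ : Type u} (θ : MvPolynomial σ k →ₐ[k] A) (hθ : θ.toRingHom.FormallySmooth) (j : σ) :
    _root_.IsReduced (A ⧸ Ideal.span {θ (MvPolynomial.X j)}) := by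
  haveI := formallySmooth_quotient θ hθ j
  haveI : Algebra.FinitePresentation k (A ⧸ Ideal.span {θ (MvPolynomial.X j)}) :=
    Algebra.FinitePresentation.quotient (Submodule.fg_span_singleton _)
  haveI : Algebra.Smooth k (A ⧸ Ideal.span {θ (MvPolynomial.X j)}) := { }
  exact isReduced_of_isNormalRing
    (NormalSmooth12.isNormalRing_of_smooth_field (algebraMap k _) (RingHom.smooth_algebraMap.2 inferInstance))

/-- A nonzero divisor of the base stays one after adjoining a root. -/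
theorem of_regular {A : Type u} [CommRing A] [Nontrivial A] {n : ℕ} (hn : 0 < n) (f x : A)
    (hx : ∀ y, x * y = 0 → y = 0) : ∀ z, AdjoinRoot.of (pol n f) x * z = 0 → z = 0 := fun z hz => by
  refine (coord hn f).ext_elem fun i => ?_
  rw [map_zero, Finsupp.zero_apply]
  refine hx _ ?_
  have h : x • z = 0 := by rw [Algebra.smul_def]; exact hz
  have h1 := congrArg (fun w => (coord hn f).repr w i) h
  simpa using h1

theorem nontrivial_pol {A : Type u} [CommRing A] [Nontrivial A] {n : ℕ} (hn : 0 < n) (f : A) :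
    Nontrivial (AdjoinRoot (pol n f)) :=
  ⟨⟨_, 0, (coord hn f).ne_zero ⟨0, hn⟩⟩⟩

theorem exists_bezout {a n : ℕ} (hn : 0 < n) (h : Nat.Coprime a n) : ∃ b c e : ℕ, a * b + n * e = 1 + n * c := by
  rcases Nat.lt_or_ge 1 n with h1 | h1
  · obtain ⟨b, -, hb⟩ := Nat.exists_mul_mod_eq_one_of_coprime h h1
    exact ⟨b, a * b / n, 0, by have := Nat.div_add_mod (a * b) n; omega⟩
  · obtain rfl : n = 1 := by omega
    exact ⟨0, 0, 1, by simp⟩

/-- `AdjoinRoot (pol n f)` is finitely presented over `k` if the base is. -/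
theorem finitePresentation_pol {k A : Type u} [CommRing k] [CommRing A] [Algebra k A]
    [Algebra.FinitePresentation k A] (n : ℕ) (f : A) : Algebra.FinitePresentation k (AdjoinRoot (pol n f)) := by
  haveI : Algebra.FinitePresentation A (AdjoinRoot (pol n f)) :=
    Algebra.FinitePresentation.quotient (Submodule.fg_span_singleton _)
  exact Algebra.FinitePresentation.trans k A _

variable {k : Type u} [Field k] (q : X ⟶ Spec (CommRingCat.of k)) [Smooth q]

include hL hN in
/-- Normal form along a coordinate. -/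
theorem branch_chart (hR : CycCov.IsCover R) (U : X.affineOpens) (hU : (U.1 : Set X).Nonempty) (e : Γ(L, U.1))
    (he : Twist.IsGen L U.1 e) (f : Γ(X, U.1)) (hf : SecTwist.val s U.1 = f • CycCov.lpow L U.1 e N)
    [Algebra k Γ(X, U.1)] {σ : Type u} [Finite σ] [DecidableEq σ] (θ : MvPolynomial σ k →ₐ[k] Γ(X, U.1))
    (hθ : θ.toRingHom.Etale) (j : σ) (α : ℕ) (w : Γ(X, U.1)) (hw : IsUnit w)
    (hfw : f = w * θ (MvPolynomial.X j) ^ α) (hNk : (N : k) ≠ 0) :
    ((π.app U.1).hom.comp (algebraMap k Γ(X, U.1))).Smooth ∧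
      ∃ S ω : Γ(Y, π ⁻¹ᵁ U.1), IsUnit ω ∧
        π.app U.1 (θ (MvPolynomial.X j)) = ω * S ^ (N / Nat.gcd N α) ∧ (Ideal.span {S}).IsRadical ∧
        ∃ d ω' : Γ(Y, π ⁻¹ᵁ U.1), IsUnit ω' ∧ S ∣ d - ω' ∧
          ((algebraMap Γ(Y, π ⁻¹ᵁ U.1) (Localization.Away d)).comp (MvPolynomial.eval₂Hom
            ((π.app U.1).hom.comp (algebraMap k Γ(X, U.1)))
            (Function.update (fun i => (π.app U.1).hom (θ (MvPolynomial.X i))) j S))).Etale := by
  haveI : Nonempty U.1 := ⟨⟨_, hU.some_mem⟩⟩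
  haveI : Nontrivial Γ(X, U.1) := X.component_nontrivial U.1
  set v := θ (MvPolynomial.X j) with hvdef
  let p := (π.app U.1).hom
  haveI : IsFinite π := hR.1
  haveI := isReduced_of_isNormalScheme hR.2.1
  -- `v` is regular
  have hv0 : v ≠ 0 := by
    letI := θ.toRingHom.toAlgebra
    haveI : Algebra.Etale (MvPolynomial σ k) Γ(X, U.1) := hθ
    have hreg : IsSMulRegular (MvPolynomial σ k) (MvPolynomial.X j : MvPolynomial σ k) :=
      isRegular_iff_ne_zero.2 (MvPolynomial.X_ne_zero j) |>.left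
    have h1 : IsSMulRegular Γ(X, U.1) (algebraMap (MvPolynomial σ k) Γ(X, U.1) (MvPolynomial.X j)) :=
      IsSMulRegular.of_flat hreg
    intro h0
    exact one_ne_zero (h1 (a₁ := 1) (a₂ := 0) (by
      rw [show algebraMap (MvPolynomial σ k) Γ(X, U.1) (MvPolynomial.X j) = 0 from h0]
      simp))
  have hpv : ∀ y, p v * y = 0 → y = 0 := fun y hy => by
    have hVU : X.basicOpen v ≤ U.1 := X.basicOpen_le v
    refine eq_zero_of_res hL hN hR hVU ?_ y ?_
    · rw [Set.nonempty_iff_ne_empty, Ne, TopologicalSpace.Opens.coe_eq_empty, basicOpen_eq_bot_iff]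
      exact hv0
    · have h1 := congrArg (Y.presheaf.map (homOfLE (π.preimage_mono hVU)).op).hom hy
      rw [map_mul, map_zero] at h1
      have hu : IsUnit ((Y.presheaf.map (homOfLE (π.preimage_mono hVU)).op).hom (p v)) := by
        have h2 : (π.app U.1 ≫ Y.presheaf.map (homOfLE (π.preimage_mono hVU)).op) =
            X.presheaf.map (homOfLE hVU).op ≫ π.app (X.basicOpen v) := (π.naturality _).symm
        have h3 := (RingedSpace.isUnit_res_basicOpen _ v).map (π.app (X.basicOpen v)).hom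
        have h4 := DFunLike.congr_fun (congrArg CommRingCat.Hom.hom h2) v
        exact h4 ▸ h3
      exact hu.mul_right_eq_zero.1 h1
  have hpvn : ∀ (m : ℕ) y, p v ^ m * y = 0 → y = 0 := fun m => by
    induction m with
    | zero => intro y hy; simpa using hy
    | succ m ih => intro y hy; rw [pow_succ, mul_assoc] at hy; exact hpv _ (ih _ hy)
  have hΓN : EGA4.IsNormalRing Γ(Y, π ⁻¹ᵁ U.1) := NormalExt19.isNormalRing_of_isNormalScheme hR.2.1 (U.2.preimage π)
  -- exponents
  set g := Nat.gcd N α with hgdef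
  have hg : 0 < g := Nat.gcd_pos_of_pos_left _ hN
  set n := N / g with hndef
  set a := α / g with hadef
  have hNgn : g * n = N := Nat.mul_div_cancel' (Nat.gcd_dvd_left N α)
  have hαga : g * a = α := Nat.mul_div_cancel' (Nat.gcd_dvd_right N α)
  have hn : 0 < n := Nat.pos_of_ne_zero fun h => by rw [h, mul_zero] at hNgn; omega
  obtain ⟨b, c, ε, habc⟩ := exists_bezout hn (Nat.coprime_div_gcd_div_gcd (m := α) (n := N)
    (by rw [Nat.gcd_comm]; exact hg) |> fun h => by rw [Nat.gcd_comm] at h; exact h)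
  -- the functions `Z₁`, `S₁`
  let t := R.t U e (cycGen he)
  have htN : t ^ N = p f := R.pow_eq U e (cycGen he) f hf
  haveI : Nontrivial Γ(Y, π ⁻¹ᵁ U.1) := by
    by_contra hnt
    rw [not_nontrivial_iff_subsingleton] at hnt
    obtain ⟨hi, -⟩ := generic_data hL hN hR U hU e he f hf
    haveI : Nontrivial (AdjoinRoot (pol N f)) := nontrivial_pol hN f
    exact one_ne_zero (α := AdjoinRoot (pol N f)) (hi (Subsingleton.elim _ _))
  obtain ⟨Z₁, hZ₁⟩ : p v ^ a ∣ t ^ n := by
    letI := p.toAlgebra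
    refine dvd_of_integral hΓN (hpvn a) _ (pol g w) (monic_pol hg w) ?_
    rw [show (pol g w).map (algebraMap Γ(X, U.1) Γ(Y, π ⁻¹ᵁ U.1)) = pol g (p w) by
      simp [pol, RingHom.algebraMap_toAlgebra], scaleRoots_pol hg]
    rw [Polynomial.eval_sub, Polynomial.eval_pow, Polynomial.eval_X, Polynomial.eval_C, ← pow_mul, ← pow_mul,
      mul_comm n g, hNgn, mul_comm a g, hαga, htN, hfw, map_mul, map_pow, sub_self]
  have hZ₁g : Z₁ ^ g = p w := by
    refine sub_eq_zero.1 (hpvn α _ ?_)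
    rw [mul_sub, ← hαga, mul_comm g a, pow_mul, ← mul_pow, ← hZ₁, ← pow_mul, mul_comm n g, hNgn, htN, hfw, ← pow_mul,
      mul_comm a g, hαga, map_mul, map_pow]
    ring
  obtain ⟨S₁, hS₁⟩ : p v ^ c ∣ t ^ b * p v ^ ε := by
    refine dvd_of_integral (A := Γ(Y, π ⁻¹ᵁ U.1)) hΓN (hpvn c) _ (pol n (Z₁ ^ b * p v)) (monic_pol hn _) ?_
    rw [Algebra.algebraMap_self, Polynomial.map_id, scaleRoots_pol hn]
    rw [Polynomial.eval_sub, Polynomial.eval_pow, Polynomial.eval_X, Polynomial.eval_C, mul_pow, ← pow_mul, ← pow_mul,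
      mul_comm b n, pow_mul t, hZ₁, mul_pow, ← pow_mul, sub_eq_zero]
    calc p v ^ (a * b) * Z₁ ^ b * p v ^ (ε * n) = Z₁ ^ b * p v ^ (a * b + n * ε) := by ring
      _ = _ := by rw [habc]; ring
  have hS₁n : S₁ ^ n = Z₁ ^ b * p v := by
    refine sub_eq_zero.1 (hpvn (c * n) _ ?_)
    rw [mul_sub, pow_mul, ← mul_pow, ← hS₁, mul_pow, ← pow_mul, ← pow_mul, mul_comm b n, pow_mul t, hZ₁, sub_eq_zero]
    calc (p v ^ a * Z₁) ^ b * p v ^ (ε * n) = Z₁ ^ b * p v ^ (a * b + n * ε) := by ring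
      _ = _ := by rw [habc]; ring
  have ht : Z₁ ^ c * t = S₁ ^ a * Z₁ ^ ε := by
    refine sub_eq_zero.1 (hpvn (a * c) _ ?_)
    rw [mul_sub, sub_eq_zero]
    calc p v ^ (a * c) * (Z₁ ^ c * t) = (p v ^ a * Z₁) ^ c * t := by ring
      _ = t ^ (1 + n * c) := by rw [← hZ₁]; ring
      _ = (t ^ b) ^ a * (t ^ n) ^ ε := by rw [← habc]; ring
      _ = (t ^ b * p v ^ ε) ^ a * Z₁ ^ ε := by rw [hZ₁]; ring
      _ = _ := by rw [hS₁]; ring
  -- the model
  have hNA : IsUnit (N : Γ(X, U.1)) := by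
    have := (IsUnit.mk0 (N : k) hNk).map (algebraMap k Γ(X, U.1)); rwa [map_natCast] at this
  obtain ⟨hgA, hnA⟩ : IsUnit (g : Γ(X, U.1)) ∧ IsUnit (n : Γ(X, U.1)) := by
    rw [← IsUnit.mul_iff, ← Nat.cast_mul, hNgn]; exact hNA
  let A' := AdjoinRoot (pol g w)
  haveI : Nontrivial A' := nontrivial_pol hg w
  let Z : A' := AdjoinRoot.root _
  have hZu : IsUnit Z := (isUnit_pow_iff hg.ne').1 (by rw [root_pow]; exact hw.map _)
  obtain ⟨Zu, hZu'⟩ := hZu
  let Zi : A' := ↑Zu⁻¹
  have hZZi : Z * Zi = 1 := by simp only [Zi, ← hZu', Units.mul_inv]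
  let θ' : MvPolynomial σ k →ₐ[k] A' := (IsScalarTower.toAlgHom k Γ(X, U.1) A').comp θ
  have hθ' : θ'.toRingHom.Etale := by
    haveI := etale_pol hg w hw hgA
    exact RingHom.Etale.stableUnderComposition _ _ hθ
      (RingHom.etale_algebraMap.2 (inferInstance : Algebra.Etale Γ(X, U.1) A'))
  have hθ'fs : θ'.toRingHom.FormallySmooth := by
    letI := θ'.toRingHom.toAlgebra
    haveI : Algebra.Etale (MvPolynomial σ k) A' := hθ'
    exact (inferInstance : Algebra.FormallySmooth (MvPolynomial σ k) A')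
  haveI : Algebra.FinitePresentation k Γ(X, U.1) := by
    letI := θ.toRingHom.toAlgebra
    haveI : IsScalarTower k (MvPolynomial σ k) Γ(X, U.1) :=
      IsScalarTower.of_algebraMap_eq' θ.comp_algebraMap.symm
    haveI : Algebra.Etale (MvPolynomial σ k) Γ(X, U.1) := hθ
    exact Algebra.FinitePresentation.trans k (MvPolynomial σ k) _
  haveI := finitePresentation_pol (k := k) g w
  let F := pol n (Z ^ b * θ' (MvPolynomial.X j))
  let B := AdjoinRoot F
  haveI : Nontrivial B := nontrivial_pol hn _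
  haveI : Algebra.FinitePresentation k B := finitePresentation_pol n _
  haveI : Algebra.FormallySmooth k B := formallySmooth_adjoinRoot θ' hθ'fs j (Z ^ b)
    ((hZu' ▸ Zu.isUnit).pow b) (by
      have := hnA.map (AdjoinRoot.of (pol g w)); rwa [map_natCast] at this)
  haveI : Algebra.Smooth k B := { }
  have hBN : EGA4.IsNormalRing B :=
    NormalSmooth12.isNormalRing_of_smooth_field (algebraMap k B) (RingHom.smooth_algebraMap.2 inferInstance)
  let ι : Γ(X, U.1) →+* B := (AdjoinRoot.of F).comp (AdjoinRoot.of (pol g w))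
  have hθ'v : θ' (MvPolynomial.X j) = AdjoinRoot.of (pol g w) v := rfl
  let χ' : A' →+* Γ(Y, π ⁻¹ᵁ U.1) := AdjoinRoot.lift p Z₁ (by
    rw [Polynomial.eval₂_sub, Polynomial.eval₂_X_pow, Polynomial.eval₂_C, hZ₁g, sub_self])
  have hχ'of : ∀ x, χ' (AdjoinRoot.of _ x) = p x := fun x => AdjoinRoot.lift_of _
  have hχ'Z : χ' Z = Z₁ := AdjoinRoot.lift_root _
  let χ : B →+* Γ(Y, π ⁻¹ᵁ U.1) := AdjoinRoot.lift χ' S₁ (by
    rw [Polynomial.eval₂_sub, Polynomial.eval₂_X_pow, Polynomial.eval₂_C, hS₁n, map_mul, map_pow, hχ'Z, hθ'v,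
      hχ'of, sub_self])
  have hχof : ∀ x, χ (AdjoinRoot.of F x) = χ' x := fun x => AdjoinRoot.lift_of _
  have hχS : χ (AdjoinRoot.root F) = S₁ := AdjoinRoot.lift_root _
  have hχι : ∀ x, χ (ι x) = p x := fun x => (hχof _).trans (hχ'of x)
  let τ : B := AdjoinRoot.root F ^ a * AdjoinRoot.of F (Z ^ ε * Zi ^ c)
  have hSn : AdjoinRoot.root F ^ n = AdjoinRoot.of F (Z ^ b) * ι v := by
    refine (root_pow _ _).trans ?_
    rw [map_mul]; rfl
  have hZg : AdjoinRoot.of F (Z ^ g) = ι w := congrArg (AdjoinRoot.of F) (root_pow g w)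
  have hone : AdjoinRoot.of F Z * AdjoinRoot.of F Zi = 1 := by rw [← map_mul, hZZi, map_one]
  let ζ := AdjoinRoot.of F Z
  let ζ' := AdjoinRoot.of F Zi
  have hτn : τ ^ n = ζ * ι v ^ a := by
    simp only [τ, map_mul, map_pow]
    calc _ = (AdjoinRoot.root F ^ n) ^ a * ζ ^ (n * ε) * ζ' ^ (n * c) := by ring
      _ = ι v ^ a * ζ ^ (a * b + n * ε) * ζ' ^ (n * c) := by rw [hSn, map_pow]; ring
      _ = ι v ^ a * ζ * (ζ * ζ') ^ (n * c) := by rw [habc]; ring
      _ = _ := by rw [hone, one_pow, mul_one, mul_comm]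
  have hτb : τ ^ b * ι v ^ ε = AdjoinRoot.root F * ι v ^ c := by
    have h1 : ι v = AdjoinRoot.root F ^ n * ζ' ^ b := by
      rw [hSn, map_pow, mul_comm, ← mul_assoc, ← mul_pow, mul_comm ζ', hone, one_pow, one_mul]
    have h2 : (ζ * ζ') ^ (ε * b) = 1 := by rw [hone, one_pow]
    simp only [τ, map_mul, map_pow]
    rw [h1]
    calc _ = AdjoinRoot.root F ^ (a * b + n * ε) * ζ' ^ (c * b) * (ζ * ζ') ^ (ε * b) := by ring
      _ = _ := by rw [habc, h2]; ring
  have hτN : τ ^ N = ι f := by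
    rw [← hNgn, mul_comm g n, pow_mul, hτn, mul_pow, ← map_pow, hZg, hfw, map_mul, map_pow, ← pow_mul, mul_comm a g,
      hαga]
  let ψ : AdjoinRoot (pol N f) →+* B := AdjoinRoot.lift ι τ (by
    rw [Polynomial.eval₂_sub, Polynomial.eval₂_X_pow, Polynomial.eval₂_C, hτN, sub_self])
  have hψof : ∀ x, ψ (AdjoinRoot.of _ x) = ι x := fun x => AdjoinRoot.lift_of _
  have hψroot : ψ (AdjoinRoot.root _) = τ := AdjoinRoot.lift_root _
  let φ := CycCov.chart R U e (cycGen he) f hf
  have hφ : χ.comp ψ = φ := by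
    refine AdjoinRoot.ringHom_ext (RingHom.ext fun x => ?_) ?_
    · simp only [RingHom.comp_apply, hψof, hχι]
      exact (chart_of U e (cycGen he) f hf x).symm
    · rw [RingHom.comp_apply, hψroot, map_mul, map_pow, hχS, hχof, map_mul, map_pow, map_pow, hχ'Z, ← mul_assoc, ← ht,
        mul_right_comm, ← mul_pow, ← hχ'Z, ← map_mul, hZZi, map_one, one_pow, one_mul]
      exact (AdjoinRoot.lift_root _).symm
  obtain ⟨hinjφ, g₀, -, hg₀, hloc⟩ := generic_data hL hN hR U hU e he f hf
  have hφg : φ (AdjoinRoot.of _ g₀) = p g₀ := chart_of U e (cycGen he) f hf g₀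
  have hvA : ∀ y, v * y = 0 → y = 0 := fun y hy => (mul_eq_zero.1 hy).resolve_left hv0
  have hιv : ∀ (m : ℕ) (z : B), ι v ^ m * z = 0 → z = 0 := fun m => by
    induction m with
    | zero => intro z hz; simpa using hz
    | succ m ih =>
      intro z hz
      rw [pow_succ, mul_assoc] at hz
      exact of_regular hn _ _ (of_regular hg w v hvA) z (ih _ hz)
  let T : Subring B :=
    { carrier := {z | ∃ (m : ℕ) (z' : AdjoinRoot (pol N f)), ι v ^ m * z = ψ z'}
      mul_mem' := fun {x y} ⟨m, x', hx⟩ ⟨m', y', hy⟩ => ⟨m + m', x' * y', by rw [map_mul, ← hx, ← hy]; ring⟩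
      one_mem' := ⟨0, 1, by simp⟩
      add_mem' := fun {x y} ⟨m, x', hx⟩ ⟨m', y', hy⟩ =>
        ⟨m + m', AdjoinRoot.of _ v ^ m' * x' + AdjoinRoot.of _ v ^ m * y', by
          rw [map_add, map_mul, map_mul, map_pow, map_pow, hψof, ← hx, ← hy]; ring⟩
      zero_mem' := ⟨0, 0, by simp⟩
      neg_mem' := fun {x} ⟨m, x', hx⟩ => ⟨m, -x', by rw [map_neg, ← hx, mul_neg]⟩ }
  have hTι : ∀ x, ι x ∈ T := fun x => ⟨0, AdjoinRoot.of _ x, by rw [hψof, pow_zero, one_mul]⟩
  have hTZ : ζ ∈ T := ⟨a, AdjoinRoot.root _ ^ n, by rw [map_pow, hψroot, hτn, mul_comm]⟩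
  have hTS : AdjoinRoot.root F ∈ T :=
    ⟨c, AdjoinRoot.root _ ^ b * AdjoinRoot.of _ v ^ ε, by
      rw [map_mul, map_pow, map_pow, hψroot, hψof, hτb, mul_comm]⟩
  have hT : ∀ z, z ∈ T := fun z => by
    have h' : ∀ x : A', AdjoinRoot.of F x ∈ T := fun x => by
      induction x using AdjoinRoot.induction_on with
      | ih P =>
        induction P using Polynomial.induction_on' with
        | add P Q hP hQ => rw [map_add, map_add]; exact T.add_mem hP hQ
        | monomial m x =>
          rw [← Polynomial.C_mul_X_pow_eq_monomial, map_mul, map_pow, AdjoinRoot.mk_C, AdjoinRoot.mk_X, map_mul,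
            map_pow]
          exact T.mul_mem (hTι x) (T.pow_mem hTZ m)
    induction z using AdjoinRoot.induction_on with
    | ih P =>
      induction P using Polynomial.induction_on' with
      | add P Q hP hQ => rw [map_add]; exact T.add_mem hP hQ
      | monomial m x =>
        rw [← Polynomial.C_mul_X_pow_eq_monomial, map_mul, map_pow, AdjoinRoot.mk_C, AdjoinRoot.mk_X]
        exact T.mul_mem (h' x) (T.pow_mem hTS m)
  have hinj : Function.Injective χ := (injective_iff_map_eq_zero _).2 fun z hz => by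
    obtain ⟨m, z', hz'⟩ := hT z
    have h1 : φ z' = 0 := by rw [← hφ, RingHom.comp_apply, ← hz', map_mul, hz, mul_zero]
    rw [hinjφ (h1.trans (map_zero φ).symm), map_zero] at hz'
    exact hιv m z hz'
  have hbij : Function.Bijective χ := by
    refine ⟨hinj, fun y => ?_⟩
    obtain ⟨m, z, hz⟩ := hloc y
    change φ _ ^ m * y = φ z at hz
    rw [hφg] at hz
    have hg₀' : ∀ (l : ℕ) x, p g₀ ^ l * x = 0 → x = 0 := fun l => by
      induction l with
      | zero => intro x hx; simpa using hx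
      | succ l ih => intro x hx; rw [pow_succ, mul_assoc] at hx; exact hg₀ _ (by rw [show CycCov.chart R U e (cycGen he) f hf _ = _ from hφg]; exact ih _ hx)
    have hp : p.IsIntegral := (IsFinite.finite_app π U.1 U.2).to_isIntegral
    obtain ⟨P, hP, hPy⟩ := hp y
    letI := ι.toAlgebra
    obtain ⟨r, hr⟩ : ι g₀ ^ m ∣ ψ z := by
      refine dvd_of_integral hBN (fun x hx => hinj ?_) _ P hP (hinj ?_)
      · rw [map_zero]
        exact hg₀' m _ (by rw [← hχι, ← map_pow, ← map_mul, hx, map_zero])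
      · rw [map_zero, ← Polynomial.eval₂_at_apply, Polynomial.eval₂_eq_eval_map, Polynomial.map_scaleRoots,
          Polynomial.map_map, map_pow, hχι, ← RingHom.comp_apply, hφ, ← hz,
          show χ.comp (algebraMap Γ(X, U.1) B) = p from RingHom.ext hχι, ← Polynomial.eval₂_id (x := _ * y)]
        · refine (Polynomial.scaleRoots_eval₂_mul (RingHom.id Γ(Y, π ⁻¹ᵁ U.1)) y (p g₀ ^ m)).trans ?_
          rw [Polynomial.eval₂_map, RingHomCompTriple.comp_eq, hPy, mul_zero]
        rw [(hP.map (algebraMap Γ(X, U.1) B)).leadingCoeff, map_one]; exact one_ne_zero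
    refine ⟨r, sub_eq_zero.1 (hg₀' m _ ?_)⟩
    rw [mul_sub, hz, ← hφ, RingHom.comp_apply, hr, map_mul, map_pow, hχι, sub_self]
  constructor
  · have h1 : (algebraMap k B) = (AdjoinRoot.of F).comp ((AdjoinRoot.of (pol g w)).comp (algebraMap k Γ(X, U.1))) :=
      rfl
    have h2 : p.comp (algebraMap k Γ(X, U.1)) = χ.comp (algebraMap k B) :=
      RingHom.ext fun x => by rw [h1]; exact (hχι _).symm
    rw [show (π.app U.1).hom = p from rfl, h2]
    exact RingHom.Smooth.stableUnderComposition _ _ (RingHom.smooth_algebraMap.2 inferInstance)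
      (RingHom.Smooth.of_bijective hbij)
  · obtain ⟨u', hu'⟩ : IsUnit Z₁ := hχ'Z ▸ (hZu' ▸ Zu.isUnit).map χ'
    obtain ⟨δ, ⟨q', hq'⟩, het⟩ := exists_etale_rootCoord θ' hθ' j (Z ^ b) n
    refine ⟨S₁, (↑u'⁻¹ : Γ(Y, π ⁻¹ᵁ U.1)) ^ b, (u'⁻¹.isUnit).pow b, ?_, ?_,
      χ (AdjoinRoot.of F δ), χ' (Z ^ b), ((hZu' ▸ Zu.isUnit).pow b).map χ', ?_, ?_⟩
    · show p v = _ * S₁ ^ n
      rw [hS₁n, ← mul_assoc, ← mul_pow, ← hu', Units.inv_mul, one_pow, one_mul]
    · rw [← hχS]
      exact isRadical_span_of_bijective hbij (isRadical_span_root hn _ _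
        ((hZu' ▸ Zu.isUnit).pow b) (isReduced_quotient_coord θ' hθ'fs j))
    · rw [hχof, ← map_sub, hq', map_mul]
      refine Dvd.dvd.mul_right ?_ _
      have hvS : Z₁ ^ b * χ' (θ' (MvPolynomial.X j)) = S₁ ^ n := by rw [hθ'v, hχ'of, hS₁n]
      exact ((u'.isUnit.pow b).dvd_mul_left (a := S₁)).1 (hu'.symm ▸ hvS.symm ▸ dvd_pow_self S₁ hn.ne')
    · let χe := RingEquiv.ofBijective χ hbij
      have H : (Submonoid.powers (AdjoinRoot.of F δ)).map χe.toMonoidHom =
          Submonoid.powers (χ (AdjoinRoot.of F δ)) := Submonoid.map_powers _ _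
      let Φ := IsLocalization.ringEquivOfRingEquiv (Localization.Away (AdjoinRoot.of F δ))
        (Localization.Away (χ (AdjoinRoot.of F δ))) χe H
      have hEq : (algebraMap _ (Localization.Away (χ (AdjoinRoot.of F δ)))).comp (MvPolynomial.eval₂Hom
            ((π.app U.1).hom.comp (algebraMap k Γ(X, U.1)))
            (Function.update (fun i => (π.app U.1).hom (θ (MvPolynomial.X i))) j S₁)) =
          Φ.toRingHom.comp ((algebraMap B (Localization.Away (AdjoinRoot.of F δ))).comp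
            (rootCoord θ' j (Z ^ b) n).toRingHom) := by
        refine MvPolynomial.ringHom_ext (fun x => ?_) fun i => ?_
        · simp only [RingHom.comp_apply, AlgHom.toRingHom_eq_coe, RingHom.coe_coe, RingEquiv.toRingHom_eq_coe]
          rw [MvPolynomial.eval₂Hom_C, IsLocalization.ringEquivOfRingEquiv_eq, ← MvPolynomial.algebraMap_eq]
          exact congrArg _ ((hχι _).symm.trans (congrArg χ ((rootCoord θ' j (Z ^ b) n).commutes x).symm))
        · simp only [RingHom.comp_apply, AlgHom.toRingHom_eq_coe, RingHom.coe_coe, RingEquiv.toRingHom_eq_coe]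
          rw [MvPolynomial.eval₂Hom_X', IsLocalization.ringEquivOfRingEquiv_eq]
          refine congrArg _ ?_
          by_cases hi : i = j
          · subst hi
            rw [Function.update_self, rootCoord]
            erw [MvPolynomial.aeval_X, Function.update_self]
            exact hχS.symm
          · rw [Function.update_of_ne hi, rootCoord]
            erw [MvPolynomial.aeval_X, Function.update_of_ne hi]
            exact (hχι _).symm
      rw [hEq]
      exact RingHom.Etale.respectsIso.1 _ Φ het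

end Groth.Agent.CycCov12
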