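import Groth.Agent.Lib.CycCover13.Alg
import Mathlib.FieldTheory.KummerPolynomial
import Mathlib.FieldTheory.IsAlgClosed.AlgebraicClosure
import Mathlib.RingTheory.RootsOfUnity.PrimitiveRoots
import Mathlib.RingTheory.Polynomial.GaussLemma
import Mathlib.RingTheory.EuclideanDomain
import Mathlib.RingTheory.Int.Basic

/-!
# Reducibility of `T ^ N - c` over a field with enough roots of unity
-/

set_option autoImplicit false
set_option backward.isDefEq.respectTransparency false
set_option linter.style.haveILetI false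

universe u

open Polynomial

namespace Groth.Agent.CycCov12

open Groth.Agent.CycCover13

theorem exists_pow_eq_of_mem {K L : Type u} [Field K] [Field L] [Algebra K L] {r : L} (hr : r ≠ 0) {m N : ℕ}
    (hm : ∃ x : K, algebraMap K L x = r ^ m) (hN : ∃ x : K, algebraMap K L x = r ^ N) :
    ∃ x : K, algebraMap K L x = r ^ Nat.gcd m N := by
  obtain ⟨x, hx⟩ := hm
  obtain ⟨y, hy⟩ := hN
  refine ⟨x ^ Nat.gcdA m N * y ^ Nat.gcdB m N, ?_⟩
  rw [map_mul, map_zpow₀, map_zpow₀, hx, hy, ← zpow_natCast r m, ← zpow_natCast r N, ← zpow_mul, ← zpow_mul,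
    ← zpow_add₀ hr, ← Nat.gcd_eq_gcd_ab, zpow_natCast]

/-- Capelli, with roots of unity in the field. -/
theorem irreducible_of_not_pow {K : Type u} [Field K] {N : ℕ} (hN : 0 < N) {ζ : K} (hζ : IsPrimitiveRoot ζ N)
    (c : K) (h : ∀ μ : ℕ, 1 < μ → μ ∣ N → ∀ β : K, β ^ μ ≠ c) : Irreducible (pol N c) := by
  haveI : NeZero N := ⟨hN.ne'⟩
  rcases eq_or_ne N 1 with rfl | hN1
  · rw [pol, pow_one]
    exact irreducible_X_sub_C c
  have hc : c ≠ 0 := fun e => h N (by omega) dvd_rfl 0 (by rw [zero_pow hN.ne', e])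
  let L := AlgebraicClosure K
  obtain ⟨r, hr⟩ := IsAlgClosed.exists_pow_nat_eq (algebraMap K L c) hN
  have hr0 : r ≠ 0 := fun e => by
    rw [e, zero_pow hN.ne'] at hr
    exact hc ((map_eq_zero _).1 hr.symm)
  have hmon := monic_pol hN c
  rw [hmon.irreducible_iff_natDegree']
  refine ⟨fun e => ?_, ?_⟩
  · have h1 := congrArg natDegree e
    rw [natDegree_pol hN, natDegree_one] at h1
    omega
  rintro p g hp hg hpg hdeg
  rw [Finset.mem_Ioc, natDegree_pol hN] at hdeg
  set m := g.natDegree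
  have hm : m < N := by omega
  have hroots : ∀ z ∈ (g.map (algebraMap K L)).roots, ∃ w : K, algebraMap K L w * r = z := fun z hz => by
    have hz' : (g.map (algebraMap K L)).eval z = 0 := (mem_roots'.1 hz).2
    have h1 : ((pol N c).map (algebraMap K L)).eval z = 0 := by
      rw [← hpg, Polynomial.map_mul, eval_mul, hz', mul_zero]
    simp only [pol, Polynomial.map_sub, Polynomial.map_pow, map_X, map_C, eval_sub, eval_pow, eval_X, eval_C,
      sub_eq_zero] at h1
    have h2 : (z / r) ^ N = 1 := by rw [div_pow, h1, hr, div_self ((_root_.map_ne_zero _).2 hc)]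
    obtain ⟨i, -, hi⟩ := (hζ.map_of_injective (algebraMap K L).injective).eq_pow_of_pow_eq_one h2
    refine ⟨ζ ^ i, ?_⟩
    rw [map_pow, hi, div_mul_cancel₀ _ hr0]
  have key : ∀ S : Multiset L, (∀ z ∈ S, ∃ w : K, algebraMap K L w * r = z) →
      ∃ w : K, algebraMap K L w * r ^ S.card = S.prod := fun S => by
    induction S using Multiset.induction_on with
    | empty => exact fun _ => ⟨1, by simp⟩
    | cons a S ih =>
      intro hS
      obtain ⟨w, hw⟩ := ih fun z hz => hS z (Multiset.mem_cons_of_mem hz)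
      obtain ⟨w', hw'⟩ := hS a (Multiset.mem_cons_self a S)
      exact ⟨w' * w, by rw [Multiset.card_cons, Multiset.prod_cons, ← hw, ← hw', map_mul, pow_succ']; ring⟩
  obtain ⟨w, hw⟩ := key _ hroots
  have hsplit : (g.map (algebraMap K L)).Splits := IsAlgClosed.splits _
  have hcard : (g.map (algebraMap K L)).roots.card = m := by
    rw [← hsplit.natDegree_eq_card_roots, natDegree_map]
  rw [hcard] at hw
  have h0 := hsplit.coeff_zero_eq_prod_roots_of_monic (hg.map _)
  rw [coeff_map, natDegree_map, ← hw] at h0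
  have hg0 : g.coeff 0 ≠ 0 := fun e => by
    have h1 := congrArg (coeff · 0) hpg
    simp only [mul_coeff_zero, e, mul_zero, pol, coeff_sub, coeff_X_pow, hN.ne, coeff_C_zero, if_false,
      zero_sub] at h1
    exact hc (neg_eq_zero.1 h1.symm)
  have hw0 : w ≠ 0 := fun e => hg0 ((map_eq_zero (algebraMap K L)).1 (by rw [h0, e]; simp))
  have hrm : ∃ x : K, algebraMap K L x = r ^ m := by
    refine ⟨g.coeff 0 / ((-1) ^ m * w), ?_⟩
    rw [map_div₀, h0, map_mul, map_pow, map_neg, map_one]
    have : algebraMap K L w ≠ 0 := (_root_.map_ne_zero _).2 hw0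
    rw [div_eq_iff (mul_ne_zero (pow_ne_zero _ (neg_ne_zero.2 one_ne_zero)) this)]
    ring
  obtain ⟨β, hβ⟩ := exists_pow_eq_of_mem hr0 hrm ⟨c, hr.symm⟩
  obtain ⟨μ, hμ⟩ := Nat.gcd_dvd_right m N
  have hdpos : 0 < m := hdeg.1
  have hdle : Nat.gcd m N ≤ m := Nat.gcd_le_left N hdpos
  refine h μ ?_ ⟨Nat.gcd m N, by rw [mul_comm, ← hμ]⟩ β ((algebraMap K L).injective ?_)
  · by_contra hμ1
    interval_cases μ <;> omega
  · rw [map_pow, hβ, ← pow_mul, ← hμ, hr]

theorem irreducible_iff_not_pow {K : Type u} [Field K] {N : ℕ} (hN : 0 < N) {ζ : K} (hζ : IsPrimitiveRoot ζ N)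
    (c : K) : Irreducible (pol N c) ↔ ∀ μ : ℕ, 1 < μ → μ ∣ N → ∀ β : K, β ^ μ ≠ c :=
  ⟨fun H _ hμ hμN β => pow_ne_of_irreducible_X_pow_sub_C H hμN hμ.ne' β, irreducible_of_not_pow hN hζ c⟩

/-- `A[T]/(T^N - f)` is a domain iff `T^N - f` is irreducible over the fraction field. -/
theorem isDomain_pol_iff {A K : Type u} [CommRing A] [IsDomain A] [IsIntegrallyClosed A] [Field K] [Algebra A K]
    [IsFractionRing A K] {N : ℕ} (hN : 0 < N) (f : A) :
    IsDomain (AdjoinRoot (pol N f)) ↔ Irreducible (pol N (algebraMap A K f)) := by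
  constructor
  · intro h
    have hp : Prime (pol N f) := (Ideal.span_singleton_prime (monic_pol hN f).ne_zero).1
      ((Ideal.Quotient.isDomain_iff_prime _).1 h)
    have h2 := ((monic_pol hN f).irreducible_iff_irreducible_map_fraction_map (K := K)).1 hp.irreducible
    simpa [pol, Polynomial.map_sub, Polynomial.map_pow] using h2
  · intro h
    haveI : IsDomain (AdjoinRoot (pol N (algebraMap A K f))) := AdjoinRoot.isDomain_of_prime h.prime
    exact (theta_injective hN (algebraMap A K f) (algebraMap A K) f 1 (by rw [one_pow, one_mul])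
      (IsFractionRing.injective A K) one_ne_zero).isDomain _

end Groth.Agent.CycCov12
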