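import Groth.Prelude
import Mathlib.AlgebraicGeometry.AffineSpace
import Mathlib.AlgebraicGeometry.Morphisms.Etale

/-!
# Étale coordinates on an affine open inside a normal crossing chart
-/

set_option autoImplicit false
set_option backward.isDefEq.respectTransparency false
set_option linter.style.haveILetI false

universe u

open CategoryTheory AlgebraicGeometry Opposite TopologicalSpace

noncomputable section

namespace Groth.Agent.CycCov12

variable {k : Type u} [Field k] {X : Scheme.{u}}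

/-- The structure map of `Γ(X, U)` over `k`. -/
def baseHom (q : X ⟶ Spec (CommRingCat.of k)) (U : X.Opens) : k →+* Γ(X, U) :=
  ((Scheme.ΓSpecIso (CommRingCat.of k)).inv ≫ q.appLE ⊤ U le_top).hom

theorem exists_etale_param (q : X ⟶ Spec (CommRingCat.of k)) {W : X.Opens} {σ : Type u} [Finite σ]
    (v : σ → Γ(W, ⊤)) (hv : Etale (AffineSpace.homOfVector (W.ι ≫ q) v)) {U : X.Opens} (hU : IsAffineOpen U)
    (h : U ≤ W) :
    ∃ θ : MvPolynomial σ k →+* Γ(X, U), θ.Etale ∧ (∀ c, θ (MvPolynomial.C c) = baseHom q U c) ∧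
      ∀ i, θ (MvPolynomial.X i) = LogNCD.sectOn W h (v i) := by
  haveI : IsAffine (U : Scheme.{u}) := hU
  let ψ : (U : Scheme.{u}) ⟶ Spec (CommRingCat.of (MvPolynomial σ k)) :=
    X.homOfLE h ≫ AffineSpace.homOfVector (W.ι ≫ q) v ≫ (AffineSpace.SpecIso σ (CommRingCat.of k)).hom
  haveI : Etale ψ := inferInstance
  have het : ψ.appTop.hom.Etale := (HasRingHomProperty.iff_of_isAffine (P := @Etale)).1 inferInstance
  let θ := ((Scheme.ΓSpecIso _).inv ≫ ψ.appTop ≫ U.topIso.hom).hom
  have hθ : θ.Etale := by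
    have h1 := RingHom.Etale.respectsIso
    simp only [θ, CommRingCat.hom_comp]
    exact h1.cancel_left_isIso _ _ |>.2 ((h1.cancel_right_isIso ψ.appTop U.topIso.hom).2 het)
  have hψ : ψ.appTop = (Scheme.ΓSpecIso _).hom ≫ CommRingCat.ofHom (MvPolynomial.eval₂Hom
      ((Scheme.ΓSpecIso (CommRingCat.of k)).inv ≫
        (𝔸(σ; Spec (CommRingCat.of k)) ↘ Spec (CommRingCat.of k)).appTop).hom
      (AffineSpace.coord (Spec (CommRingCat.of k)))) ≫
        (X.homOfLE h ≫ AffineSpace.homOfVector (W.ι ≫ q) v).appTop := by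
    rw [show ψ = (X.homOfLE h ≫ AffineSpace.homOfVector (W.ι ≫ q) v) ≫
      (AffineSpace.SpecIso σ (CommRingCat.of k)).hom from (Category.assoc _ _ _).symm, Scheme.Hom.comp_appTop,
      AffineSpace.SpecIso_hom_appTop, Category.assoc]
  have hθe : ∀ P, θ P = U.topIso.hom ((X.homOfLE h ≫ AffineSpace.homOfVector (W.ι ≫ q) v).appTop
      (MvPolynomial.eval₂Hom ((Scheme.ΓSpecIso (CommRingCat.of k)).inv ≫
        (𝔸(σ; Spec (CommRingCat.of k)) ↘ Spec (CommRingCat.of k)).appTop).hom
        (AffineSpace.coord (Spec (CommRingCat.of k))) P)) := fun P => by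
    simp only [θ, hψ, CommRingCat.hom_comp, RingHom.comp_apply, CommRingCat.hom_ofHom]
    rw [show (Scheme.ΓSpecIso _).hom.hom ((Scheme.ΓSpecIso _).inv.hom P) = P from
      Iso.inv_hom_id_apply (Scheme.ΓSpecIso (CommRingCat.of (MvPolynomial σ k))) P]
  refine ⟨θ, hθ, fun c => ?_, fun i => ?_⟩
  · rw [hθe, MvPolynomial.eval₂Hom_C]
    have h2 : (Scheme.ΓSpecIso (CommRingCat.of k)).inv ≫
        (𝔸(σ; Spec (CommRingCat.of k)) ↘ Spec (CommRingCat.of k)).appTop ≫
        (X.homOfLE h ≫ AffineSpace.homOfVector (W.ι ≫ q) v).appTop ≫ U.topIso.hom =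
        (Scheme.ΓSpecIso (CommRingCat.of k)).inv ≫ q.appLE ⊤ U le_top := by
      congr 1
      rw [← Category.assoc, ← Scheme.Hom.comp_appTop, Category.assoc, AffineSpace.homOfVector_over,
        X.homOfLE_ι_assoc h]
      simp [Scheme.Hom.appLE, ← Functor.map_comp]
    exact DFunLike.congr_fun (congrArg CommRingCat.Hom.hom h2) c
  · rw [hθe, MvPolynomial.eval₂Hom_X', Scheme.Hom.comp_appTop, CommRingCat.comp_apply,
      AffineSpace.homOfVector_appTop_coord, LogNCD.sectOn_apply]
    rw [← CommRingCat.comp_apply, ← CommRingCat.comp_apply]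
    refine DFunLike.congr_fun (congrArg CommRingCat.Hom.hom ?_) (v i)
    simp [Scheme.homOfLE_appTop, ← Functor.map_comp]

end Groth.Agent.CycCov12
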