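import Groth.Agent.Lib.CycCov12.NCD
import Mathlib.RingTheory.Flat.EquationalCriterion
import Mathlib.RingTheory.Polynomial.UniqueFactorization

/-!
# The integral closure of a Kummer extension along normal crossings
-/

set_option autoImplicit false
set_option backward.isDefEq.respectTransparency false
set_option linter.style.haveILetI false
set_option maxHeartbeats 1000000

universe u

noncomputable section

namespace Groth.Agent.CycCov12

open Groth.Agent.CycCover13

section Summand

variable {A K : Type u} [CommRing A] [Field K] [Algebra A K] {N : ℕ}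

/-- Each homogeneous part of an integral element is integral. -/
theorem isIntegral_summand (hN : 0 < N) (f : A) (hNA : IsUnit (N : A))
    {y : AdjoinRoot (pol N (algebraMap A K f))} (p : Polynomial A) (hp : p.Monic)
    (hy : p.eval₂ ((AdjoinRoot.of _).comp (algebraMap A K)) y = 0) (i : Fin N) :
    IsIntegral A ((coord hN (algebraMap A K f)).repr y i ^ N * algebraMap A K f ^ (i : ℕ)) := by
  let L := AlgebraicClosure K
  let c := algebraMap A K f
  obtain ⟨n', hn'⟩ := hNA
  have hNL : (algebraMap A L) ↑n' = (N : L) := by rw [hn', map_natCast]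
  haveI : NeZero (N : L) := ⟨by rw [← hNL]; exact (n'.isUnit.map (algebraMap A L)).ne_zero⟩
  obtain ⟨ζ, hζ⟩ := HasEnoughRootsOfUnity.exists_primitiveRoot L N
  obtain ⟨r, hr⟩ := IsAlgClosed.exists_pow_nat_eq (algebraMap A L f) hN
  let rt : ℕ → L := fun j => ζ ^ j * r
  have hrt : ∀ j, rt j ^ N = algebraMap A L f := fun j => by
    simp only [rt, mul_pow, ← pow_mul, mul_comm j, hr]
    rw [pow_mul, hζ.pow_eq_one, one_pow, one_mul]
  let σ : ℕ → AdjoinRoot (pol N c) →+* L := fun j => AdjoinRoot.lift (algebraMap K L) (rt j)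
    (by rw [Polynomial.eval₂_sub, Polynomial.eval₂_X_pow, Polynomial.eval₂_C, hrt, sub_eq_zero,
      ← IsScalarTower.algebraMap_apply A K L])
  have hint : ∀ j, IsIntegral A (σ j y) := fun j => by
    refine ⟨p, hp, ?_⟩
    have h1 := congrArg (σ j) hy
    rw [Polynomial.hom_eval₂, map_zero] at h1
    rw [← h1]
    congr 1
    refine RingHom.ext fun a => ?_
    have e1 : σ j (AdjoinRoot.of (pol N c) (algebraMap A K a)) = algebraMap K L (algebraMap A K a) :=
      AdjoinRoot.lift_of _
    exact ((IsScalarTower.algebraMap_apply A K L a).trans e1.symm)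
  have hζint : IsIntegral A ζ := IsIntegral.of_pow hN (by rw [hζ.pow_eq_one]; exact isIntegral_one)
  have hσ : ∀ j, σ j y = ∑ m, algebraMap K L ((coord hN c).repr y m) * rt j ^ (m : ℕ) := fun j => by
    conv_lhs => rw [← (coord hN c).sum_repr y, map_sum]
    refine Finset.sum_congr rfl fun m _ => ?_
    rw [coord_apply, Algebra.smul_def, map_mul, map_pow]
    simp only [σ, AdjoinRoot.algebraMap_eq, AdjoinRoot.lift_of, AdjoinRoot.lift_root]
  have hkey : (∑ j ∈ Finset.range N, σ j y * (ζ ^ j) ^ (N - (i : ℕ))) =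
      algebraMap K L ((coord hN c).repr y i) * r ^ (i : ℕ) * (N : L) := by
    calc (∑ j ∈ Finset.range N, σ j y * (ζ ^ j) ^ (N - (i : ℕ)))
        = ∑ m, algebraMap K L ((coord hN c).repr y m) * r ^ (m : ℕ) *
            ∑ j ∈ Finset.range N, (ζ ^ j) ^ ((m : ℕ) + (N - (i : ℕ))) := by
          rw [Finset.sum_congr rfl fun j _ => show σ j y * (ζ ^ j) ^ (N - (i : ℕ)) = _ by rw [hσ j, Finset.sum_mul],
            Finset.sum_comm]
          refine Finset.sum_congr rfl fun m _ => ?_
          rw [Finset.mul_sum]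
          exact Finset.sum_congr rfl fun j _ => by
            simp only [rt, mul_pow, pow_add]; ring
      _ = _ := by
          rw [Finset.sum_eq_single i (fun m _ hm => by rw [sum_root_pow hζ hN, if_neg hm, mul_zero])
            (fun h => absurd (Finset.mem_univ i) h), sum_root_pow hζ hN, if_pos rfl]
  have h2 : IsIntegral A (algebraMap K L ((coord hN c).repr y i) * r ^ (i : ℕ) * (N : L)) := by
    rw [← hkey]
    exact IsIntegral.sum _ fun j _ => (hint j).mul ((hζint.pow _).pow _)
  have h3 := (h2.mul (isIntegral_algebraMap (R := A) (A := L) (x := (↑n'⁻¹ : A)))).pow N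
  rw [mul_assoc _ (N : L), ← hNL, ← map_mul, Units.mul_inv, map_one, mul_one, mul_pow, ← pow_mul, mul_comm (i : ℕ) N,
    pow_mul r N, hr, IsScalarTower.algebraMap_apply A K L f, ← map_pow (algebraMap K L), ← map_pow (algebraMap K L),
    ← map_mul] at h3
  exact (isIntegral_algHom_iff (IsScalarTower.toAlgHom A K L) (algebraMap K L).injective).1 h3

end Summand

section Coord

variable {k A : Type u} [Field k] [CommRing A] {σ : Type u} [Finite σ]
  (φ : MvPolynomial σ k →+* A) (hφ : φ.Etale)

include hφ in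
/-- A coordinate is regular modulo another one. -/
theorem dvd_of_dvd_coord_mul {j l : σ} (hjl : j ≠ l) {a : A}
    (h : φ (MvPolynomial.X j) ∣ φ (MvPolynomial.X l) * a) : φ (MvPolynomial.X j) ∣ a := by
  letI := φ.toAlgebra
  haveI : Algebra.Etale (MvPolynomial σ k) A := hφ
  obtain ⟨c, hc⟩ := h
  obtain ⟨n, p, y, hy, hp⟩ := Module.Flat.isTrivialRelation_of_sum_smul_eq_zero
    (f := (![MvPolynomial.X l, MvPolynomial.X j] : Fin 2 → MvPolynomial σ k)) (x := ![a, -c]) (by
      simp only [Fin.sum_univ_two, Matrix.cons_val_zero, Matrix.cons_val_one, Algebra.smul_def,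
        RingHom.algebraMap_toAlgebra]
      rw [hc]
      ring)
  have h0 := hy 0
  simp only [Matrix.cons_val_zero] at h0
  rw [h0]
  refine Finset.dvd_sum fun m _ => ?_
  rw [Algebra.smul_def, RingHom.algebraMap_toAlgebra]
  refine Dvd.dvd.mul_right (map_dvd φ ?_) _
  have hrel := hp m
  simp only [Fin.sum_univ_two, Matrix.cons_val_zero, Matrix.cons_val_one] at hrel
  have hprime : Prime (MvPolynomial.X j : MvPolynomial σ k) := MvPolynomial.X_prime
  refine ((hprime.dvd_mul (a := MvPolynomial.X l) (b := p 0 m)).1 ⟨-p 1 m, by linear_combination hrel⟩).resolve_left ?_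
  rw [MvPolynomial.X_dvd_X]
  exact hjl

include hφ in
/-- Products of distinct coordinates generate radical ideals. -/
theorem isRadical_prod_coord (s : Finset σ) : (Ideal.span {∏ l ∈ s, φ (MvPolynomial.X l)}).IsRadical := by
  classical
  induction s using Finset.induction_on with
  | empty =>
    rw [Finset.prod_empty, Ideal.span_singleton_one]
    exact fun x _ => Submodule.mem_top
  | insert j s hj ih =>
    intro x hx
    obtain ⟨n, hn⟩ := hx
    rw [Finset.prod_insert hj, Ideal.mem_span_singleton] at hn ⊢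
    obtain ⟨z, rfl⟩ := Ideal.mem_span_singleton.1 (ih ⟨n, Ideal.mem_span_singleton.2 (dvd_trans (dvd_mul_left _ _) hn)⟩)
    have hxj := Ideal.mem_span_singleton.1 (isRadical_coord φ hφ j ⟨n, Ideal.mem_span_singleton.2
      (dvd_trans (dvd_mul_right _ _) hn)⟩)
    have key : ∀ t : Finset σ, j ∉ t → ∀ z : A, φ (MvPolynomial.X j) ∣ (∏ l ∈ t, φ (MvPolynomial.X l)) * z →
        φ (MvPolynomial.X j) ∣ z := fun t => by
      induction t using Finset.induction_on with
      | empty => intro _ z hz; rwa [Finset.prod_empty, one_mul] at hz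
      | insert l t hl iht =>
        intro hjt z hz
        rw [Finset.prod_insert hl, mul_assoc] at hz
        exact iht (fun h => hjt (Finset.mem_insert_of_mem h)) z
          (dvd_of_dvd_coord_mul φ hφ (fun h => hjt (by rw [h]; exact Finset.mem_insert_self _ _)) hz)
    obtain ⟨c, rfl⟩ := key s hj z hxj
    exact ⟨c, by ring⟩

end Coord

section Bound

variable {A K : Type u} [CommRing A] [IsDomain A] [Field K] [Algebra A K] [IsFractionRing A K]
  [IsIntegrallyClosed A] {ι : Type} [Fintype ι]

/-- The pole order of a homogeneous integral element is at most the integral part. -/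
theorem exists_coeff_bound {N : ℕ} (hN : 0 < N) (v : ι → A) (α : ι → ℕ) (hP : ∏ j, v j ≠ 0)
    (hrad : (Ideal.span {∏ j, v j}).IsRadical) (w : A) (hw : IsUnit w) (f : A) (hf : f = w * ∏ j, v j ^ α j)
    (a : K) (i : ℕ) (ha : IsIntegral A (a ^ N * algebraMap A K f ^ i)) :
    ∃ b : A, algebraMap A K b = a * algebraMap A K (∏ j, v j ^ (i * α j / N)) := by
  obtain ⟨g, hg⟩ := IsIntegrallyClosed.isIntegral_iff.1 ha
  obtain ⟨w', hw'⟩ := isUnit_iff_exists_inv.1 (hw.pow i)
  let P := ∏ j, v j
  let Q := ∏ j, v j ^ (i * α j / N)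
  let R := ∏ j, v j ^ (i * α j % N)
  let S := ∏ j, v j ^ (N - i * α j % N)
  have hQR : Q ^ N * R = (∏ j, v j ^ α j) ^ i := by
    simp only [Q, R, ← Finset.prod_pow, ← Finset.prod_mul_distrib, ← pow_mul, ← pow_add]
    refine Finset.prod_congr rfl fun j _ => ?_
    rw [Nat.mul_comm (i * α j / N) N, Nat.div_add_mod, Nat.mul_comm]
  have hRS : R * S = P ^ N := by
    simp only [P, R, S, ← Finset.prod_pow, ← Finset.prod_mul_distrib, ← pow_add]
    refine Finset.prod_congr rfl fun j _ => ?_
    rw [Nat.add_sub_cancel' (Nat.mod_lt _ hN).le]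
  have hPS : P ∣ S := Finset.prod_dvd_prod_of_dvd _ _ fun j _ =>
    dvd_pow_self _ (Nat.sub_pos_of_lt (Nat.mod_lt _ hN)).ne'
  have hc : (a * algebraMap A K (Q * P)) ^ N = algebraMap A K (g * w' * S) := by
    simp only [map_mul, map_pow, hg, hf, mul_pow]
    have e1 : algebraMap A K Q ^ N * algebraMap A K P ^ N =
        algebraMap A K ((∏ j, v j ^ α j) ^ i) * algebraMap A K S := by
      rw [← map_pow, ← map_pow, ← map_mul, ← map_mul, ← hQR, ← hRS]
      congr 1
      ring
    have e2 : algebraMap A K w ^ i * algebraMap A K w' = 1 := by rw [← map_pow, ← map_mul, hw', map_one]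
    rw [map_pow] at e1
    linear_combination a ^ N * e1 - (a ^ N * algebraMap A K (∏ j, v j ^ α j) ^ i * algebraMap A K S) * e2
  obtain ⟨c, hc'⟩ := IsIntegrallyClosed.isIntegral_iff.1
    (IsIntegral.of_pow hN (hc ▸ isIntegral_algebraMap : IsIntegral A ((a * algebraMap A K (Q * P)) ^ N)))
  have hcP : c ^ N ∈ Ideal.span {P} := by
    rw [show c ^ N = g * w' * S from IsFractionRing.injective A K (by rw [map_pow, hc', hc]),
      Ideal.mem_span_singleton]
    exact hPS.mul_left _
  obtain ⟨b, rfl⟩ := Ideal.mem_span_singleton.1 (hrad ⟨N, hcP⟩)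
  refine ⟨b, ?_⟩
  have hP' : algebraMap A K P ≠ 0 := (map_ne_zero_iff _ (IsFractionRing.injective A K)).2 hP
  refine mul_left_cancel₀ hP' ?_
  rw [← map_mul, hc', map_mul]
  ring

end Bound

end Groth.Agent.CycCov12
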