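import Groth.Agent.Lib.CycCov12.Frames
import Groth.Agent.Lib.AffRep19.FiniteGamma
import Groth.Prelude.Def_LogNCD
import Mathlib.AlgebraicGeometry.Morphisms.Etale
import Mathlib.AlgebraicGeometry.Morphisms.Finite
import Mathlib.AlgebraicGeometry.FunctionField

/-!
# Normalised cyclic covers are étale away from the branch divisor
-/

set_option autoImplicit false
set_option backward.isDefEq.respectTransparency false
set_option linter.style.haveILetI false

universe u

open CategoryTheory AlgebraicGeometry Opposite TopologicalSpace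

noncomputable section

namespace Groth.Agent.CycCov12

open Groth.Agent Groth.Agent.M1 Groth.Agent.CycCover13

variable {X Y : Scheme.{u}} {L : X.Modules} {N : ℕ} {s : Coh.structureModule X ⟶ CohB1.tensorPow L N}
  {π : Y ⟶ X} {R : CycCov.Root L N s π}

theorem isReduced_of_isNormalScheme (h : Pi1.IsNormalScheme Y) : AlgebraicGeometry.IsReduced Y := by
  haveI : ∀ y, _root_.IsReduced (Y.presheaf.stalk y) := fun y => by
    haveI := (h y).1
    infer_instance
  exact AlgebraicGeometry.isReduced_of_isReduced_stalk Y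

theorem chart_of (U : X.affineOpens) (e : Γ(L, U.1)) (he : CycCov.IsGen L U.1 e) (f : Γ(X, U.1))
    (hf : SecTwist.val s U.1 = f • CycCov.lpow L U.1 e N) (a : Γ(X, U.1)) :
    CycCov.chart R U e he f hf (AdjoinRoot.of _ a) = π.app U.1 a :=
  AdjoinRoot.lift_of _

variable [IsIntegral X] (hL : PicF.IsInvertible L) (hN : 0 < N)

include hL hN in
/-- The preimage of a non-empty open is dense in a cover. -/
theorem dense_preimage (hR : CycCov.IsCover R) {V : X.Opens} (hV : (V : Set X).Nonempty) :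
    Dense ((π ⁻¹ᵁ V : Y.Opens) : Set Y) := by
  obtain ⟨hfin, hnorm, W₀, hW₀, hd, hbij⟩ := hR
  haveI := hfin
  haveI := isReduced_of_isNormalScheme hnorm
  refine dense_iff_inter_open.2 fun O hO hne => ?_
  obtain ⟨y, hyO, hyW⟩ := dense_iff_inter_open.1 hd O hO hne
  obtain ⟨U, hyU, hUW, e, he⟩ := exists_frame hL (x := π.base y) (V := W₀) hyW
  obtain ⟨f, hf⟩ := exists_coeff he s
  obtain ⟨b, hbO, hyb⟩ := (U.2.preimage π).exists_basicOpen_le (V := ⟨O, hO⟩) ⟨y, hyO⟩ hyU
  obtain ⟨x, hxV, hxU⟩ := nonempty_preirreducible_inter V.2 U.1.2 hV ⟨_, hyU⟩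
  obtain ⟨g, hgV, hxg⟩ := U.2.exists_basicOpen_le (V := V) ⟨x, hxV⟩ hxU
  have hg0 : g ≠ 0 := fun h => by
    rw [h, Scheme.basicOpen_zero] at hxg
    exact hxg
  haveI : Nonempty U.1 := ⟨⟨_, hyU⟩⟩
  have hprod : b * π.app U.1 g ≠ 0 := fun h0 => by
    obtain ⟨hi, hs⟩ := hbij U hUW e (cycGen he) f hf
    obtain ⟨w, rfl⟩ := hs b
    rw [← chart_of U e (cycGen he) f hf g, ← map_mul] at h0
    have h1 : w * AdjoinRoot.of _ g = 0 := hi (h0.trans (map_zero _).symm)
    haveI := (monic_pol hN f).free_adjoinRoot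
    have h2 : g • w = 0 := by rw [Algebra.smul_def, mul_comm]; exact h1
    rcases smul_eq_zero.1 h2 with h | h
    · exact hg0 h
    · rw [h, map_zero, Scheme.basicOpen_zero] at hyb
      exact hyb
  obtain ⟨z, hz⟩ : (Y.basicOpen (b * π.app U.1 g) : Set Y).Nonempty := by
    rw [Set.nonempty_iff_ne_empty]
    intro h
    exact hprod ((basicOpen_eq_bot_iff _).1 (SetLike.coe_injective h))
  rw [Scheme.basicOpen_mul] at hz
  refine ⟨z, hbO hz.1, hgV ?_⟩
  have h2 := hz.2
  rw [← Scheme.preimage_basicOpen] at h2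
  exact h2

include hL hN in
theorem eq_zero_of_res (hR : CycCov.IsCover R) {U V : X.Opens} (h : V ≤ U) (hV : (V : Set X).Nonempty)
    (b : Γ(Y, π ⁻¹ᵁ U)) (hb : Y.presheaf.map (homOfLE (π.preimage_mono h)).op b = 0) : b = 0 := by
  haveI := isReduced_of_isNormalScheme hR.2.1
  refine (basicOpen_eq_bot_iff b).1 ?_
  by_contra hne
  have hne' : (Y.basicOpen b : Set Y).Nonempty := by
    rw [Set.nonempty_iff_ne_empty]
    exact fun he => hne (SetLike.coe_injective he)
  obtain ⟨z, hz, hzV⟩ := dense_iff_inter_open.1 (dense_preimage hL hN hR hV) _ (Y.basicOpen b).2 hne'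
  have : z ∈ Y.basicOpen (Y.presheaf.map (homOfLE (π.preimage_mono h)).op b) := by
    rw [Scheme.basicOpen_res]
    exact ⟨hzV, hz⟩
  rw [hb, Scheme.basicOpen_zero] at this
  exact this

include hL hN in
/-- Over a non-empty affine with a frame the chart is birational. -/
theorem generic_data (hR : CycCov.IsCover R) (U : X.affineOpens) (hU : (U.1 : Set X).Nonempty) (e : Γ(L, U.1))
    (he : Twist.IsGen L U.1 e) (f : Γ(X, U.1)) (hf : SecTwist.val s U.1 = f • CycCov.lpow L U.1 e N) :
    Function.Injective (CycCov.chart R U e (cycGen he) f hf) ∧ ∃ g : Γ(X, U.1), g ≠ 0 ∧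
      (∀ b, CycCov.chart R U e (cycGen he) f hf (AdjoinRoot.of _ g) * b = 0 → b = 0) ∧
      ∀ b, ∃ (m : ℕ) (z : AdjoinRoot (pol N f)),
        CycCov.chart R U e (cycGen he) f hf (AdjoinRoot.of _ g) ^ m * b = CycCov.chart R U e (cycGen he) f hf z := by
  have hR' := hR
  obtain ⟨hfin, hnorm, W₀, hW₀, hd, hbij⟩ := hR'
  haveI := hfin
  haveI : Nonempty U.1 := ⟨⟨_, hU.some_mem⟩⟩
  haveI := functionField_isFractionRing_of_isAffineOpen X U.1 U.2
  obtain ⟨x, hxU, hxW⟩ := hW₀.inter_open_nonempty U.1 U.1.2 hU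
  obtain ⟨g, hgW, hxg⟩ := U.2.exists_basicOpen_le (V := W₀) ⟨x, hxW⟩ hxU
  have hg0 : g ≠ 0 := fun h => by
    rw [h, Scheme.basicOpen_zero] at hxg
    exact hxg
  let V : X.affineOpens := ⟨X.basicOpen g, U.2.basicOpen g⟩
  have hVU : V.1 ≤ U.1 := X.basicOpen_le g
  have hVne : (V.1 : Set X).Nonempty := ⟨x, hxg⟩
  haveI : Nonempty V.1 := ⟨⟨x, hxg⟩⟩
  haveI : IsLocalization.Away g Γ(X, V.1) := U.2.isLocalization_basicOpen g
  have hV := hbij V hgW (M1.mres L hVU e) (cycGen (he.mres hVU)) (ores hVU f) (coeff_res hVU hf)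
  let lift := AdjoinRoot.lift ((AdjoinRoot.of (pol N (ores hVU f))).comp (ores hVU).hom) (AdjoinRoot.root _)
    (eval_root (ores hVU).hom f)
  have hres : ∀ z, Y.presheaf.map (homOfLE (π.preimage_mono hVU)).op (CycCov.chart R U e (cycGen he) f hf z) =
      CycCov.chart R V (M1.mres L hVU e) (cycGen (he.mres hVU)) (ores hVU f) (coeff_res hVU hf) (lift z) :=
    chart_res R hVU e he f hf
  refine ⟨?_, g, hg0, fun b hb => ?_, fun b => ?_⟩
  · refine (injective_iff_map_eq_zero _).2 fun z hz => ?_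
    have h1 : lift z = 0 := hV.1 (by rw [← hres, hz, map_zero, map_zero])
    let κU := algebraMap Γ(X, U.1) X.functionField
    let c := κU f
    have hcU : κU f = (1 : X.functionField) ^ N * c := by rw [one_pow, one_mul]
    let κV := algebraMap Γ(X, V.1) X.functionField
    have hκ : ∀ a, κV (ores hVU a) = κU a := fun a => X.presheaf.germ_res_apply (homOfLE hVU) _ _ a
    have hcV : κV (ores hVU f) = (1 : X.functionField) ^ N * c := (hκ f).trans hcU
    have h2 : ∀ z, theta (d := N) c κV (ores hVU f) 1 hcV (lift z) = theta (d := N) c κU f 1 hcU z := fun z => by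
      obtain ⟨p, rfl⟩ := AdjoinRoot.mk_surjective z
      induction p using Polynomial.induction_on' with
      | add p p' hp hp' => simp only [map_add, hp, hp']
      | monomial n a =>
        simp only [lift, ← Polynomial.C_mul_X_pow_eq_monomial, map_mul, map_pow, AdjoinRoot.mk_C,
          AdjoinRoot.mk_X, AdjoinRoot.lift_of, AdjoinRoot.lift_root, RingHom.comp_apply, theta_of, theta_root, hκ]
    refine theta_injective hN c κU f 1 hcU (IsFractionRing.injective _ _) one_ne_zero ?_
    rw [← h2, h1, map_zero, map_zero]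
  · refine eq_zero_of_res hL hN hR hVU hVne b ?_
    have h1 := congrArg (Y.presheaf.map (homOfLE (π.preimage_mono hVU)).op) hb
    rw [map_mul, map_zero, hres] at h1
    have hu : IsUnit (lift (AdjoinRoot.of _ g)) := by
      simp only [lift, AdjoinRoot.lift_of, RingHom.comp_apply]
      exact (IsLocalization.Away.algebraMap_isUnit (S := Γ(X, V.1)) g).map _
    exact ((hu.map _).mul_right_eq_zero).1 h1
  · obtain ⟨w, hw⟩ := hV.2 (Y.presheaf.map (homOfLE (π.preimage_mono hVU)).op b)
    obtain ⟨p, rfl⟩ := AdjoinRoot.mk_surjective w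
    have key : ∀ p : Polynomial Γ(X, V.1), ∃ (m : ℕ) (z : AdjoinRoot (pol N f)),
        lift z = lift (AdjoinRoot.of _ g) ^ m * AdjoinRoot.mk _ p := fun p => by
      induction p using Polynomial.induction_on' with
      | add p p' hp hp' =>
        obtain ⟨m, z, hz⟩ := hp
        obtain ⟨m', z', hz'⟩ := hp'
        refine ⟨m + m', AdjoinRoot.of _ g ^ m' * z + AdjoinRoot.of _ g ^ m * z', ?_⟩
        simp only [map_add, map_mul, map_pow, hz, hz']
        ring
      | monomial n a =>
        obtain ⟨m, a₀, ha⟩ := IsLocalization.Away.surj g a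
        refine ⟨m, AdjoinRoot.of _ a₀ * AdjoinRoot.root _ ^ n, ?_⟩
        simp only [lift, ← Polynomial.C_mul_X_pow_eq_monomial, map_mul, map_pow, AdjoinRoot.mk_C,
          AdjoinRoot.mk_X, AdjoinRoot.lift_of, AdjoinRoot.lift_root, RingHom.comp_apply]
        rw [show (ores hVU) a₀ = a * (ores hVU) g ^ m from ha.symm, map_mul, map_pow]
        ring
    obtain ⟨m, z, hz⟩ := key p
    refine ⟨m, z, sub_eq_zero.1 (eq_zero_of_res hL hN hR hVU hVne _ ?_)⟩
    rw [map_sub, map_mul, map_pow, hres, hres, hz, map_mul, map_pow, hw, sub_self]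

variable {k : Type u} [Field k] (q : X ⟶ Spec (CommRingCat.of k)) [Smooth q]

include q hL hN in
/-- A chart on which the branch divisor is empty is bijective. -/
theorem bijective_chart (hR : CycCov.IsCover R) (U : X.affineOpens) (hU : (U.1 : Set X).Nonempty) (e : Γ(L, U.1))
    (he : Twist.IsGen L U.1 e) (f : Γ(X, U.1)) (hf : SecTwist.val s U.1 = f • CycCov.lpow L U.1 e N)
    (hfu : IsUnit f) (hNu : IsUnit (N : Γ(X, U.1))) :
    Function.Bijective (CycCov.chart R U e (cycGen he) f hf) := by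
  haveI := hR.1
  haveI : Nonempty U.1 := ⟨⟨_, hU.some_mem⟩⟩
  haveI := functionField_isFractionRing_of_isAffineOpen X U.1 U.2
  haveI := AffRep19.isIntegrallyClosed_of_smooth q U.1 U.2 hU
  obtain ⟨hinj, g, hg0, hgB, hloc⟩ := generic_data hL hN hR U hU e he f hf
  refine bijective_of_generic (K := X.functionField) hN f hfu hNu _ g hg0 hgB hinj hloc ?_
  have h : (CycCov.chart R U e (cycGen he) f hf).comp (AdjoinRoot.of _) = (π.app U.1).hom :=
    RingHom.ext fun a => chart_of U e (cycGen he) f hf a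
  rw [h]
  exact (IsFinite.finite_app π U.1 U.2).to_isIntegral

omit [IsIntegral X] in
/-- An ideal is trivial on an affine open missing its support. -/
theorem ideal_eq_top (J : X.IdealSheafData) (U : X.affineOpens) (h : ∀ x ∈ U.1, x ∉ J.support) :
    J.ideal U = ⊤ := by
  by_contra hne
  obtain ⟨p, hp, hle⟩ := Ideal.exists_le_maximal _ hne
  let P : PrimeSpectrum Γ(X, U.1) := ⟨p, hp.isPrime⟩
  have hx : U.2.fromSpec P ∈ X.zeroLocus (U := U.1) (J.ideal U : Set Γ(X, U.1)) ∩ U.1 := by
    rw [← U.2.fromSpec_image_zeroLocus]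
    exact ⟨P, hle, rfl⟩
  rw [← J.coe_support_inter U] at hx
  exact h _ hx.2 hx.1

theorem divIdeal_ideal_eq_top {r : ℕ} (D : Fin r → X.IdealSheafData) (α : Fin r → ℕ) (U : X.affineOpens)
    (hU : ∀ j, 0 < α j → ∀ x ∈ U.1, x ∉ (D j).support) : (CycCov.divIdeal D α).ideal U = ⊤ := by
  unfold CycCov.divIdeal
  refine Finset.prod_induction _ (fun I : X.IdealSheafData => I.ideal U = ⊤) (fun I J hI hJ => ?_) ?_ fun j _ => ?_
  · simp [hI, hJ]
  · rw [show (1 : X.IdealSheafData) = ⊤ from rfl]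
    simp
  · rcases Nat.eq_zero_or_pos (α j) with h | h
    · simp [h]
    · simp [ideal_eq_top (D j) U (hU j h), Ideal.top_pow]

include q hL hN in
theorem etale_restrict {r : ℕ} {D : Fin r → X.IdealSheafData} {α : Fin r → ℕ}
    (hs : CycCov.IsZeroDiv (CohB1.tensorPow L N) s (CycCov.divIdeal D α)) (hR : CycCov.IsCover R) (hNk : (N : k) ≠ 0)
    (W : X.Opens) (hW : ∀ j, 0 < α j → Disjoint (W : Set X) ((D j).support : Set X)) : Etale (π ∣_ W) := by
  haveI : IsFinite π := hR.1
  have key : ∀ x ∈ W, ∃ U : X.affineOpens, x ∈ U.1 ∧ U.1 ≤ W ∧ Etale (π ∣_ U.1) := fun x hx => by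
    obtain ⟨U, hxU, hUW, e, he⟩ := exists_frame hL (x := x) hx
    obtain ⟨f, hf⟩ := exists_coeff he s
    refine ⟨U, hxU, hUW, ?_⟩
    have hgen := cycGen (isGen_lpow he N)
    have hfu : IsUnit f := by
      have h1 := hs U
      rw [divIdeal_ideal_eq_top D α U (fun j hj y hy hyD => Set.disjoint_left.1 (hW j hj) (hUW hy) hyD),
        Submodule.top_smul, hf] at h1
      obtain ⟨a, ha⟩ := Submodule.mem_span_singleton.1
        (h1.ge (Submodule.mem_top (x := CycCov.lpow L U.1 e N)))
      refine isUnit_iff_exists_inv.2 ⟨a, hgen.1 ?_⟩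
      show (f * a) • CycCov.lpow L U.1 e N = (1 : Γ(X, U.1)) • CycCov.lpow L U.1 e N
      rw [mul_comm, ← smul_smul]
      exact ha.trans (one_smul _ _).symm
    have hNu : IsUnit (N : Γ(X, U.1)) := by
      have h := (IsUnit.mk0 (N : k) hNk).map
        ((Scheme.ΓSpecIso (CommRingCat.of k)).inv ≫ q.appLE ⊤ U.1 le_top).hom
      rwa [map_natCast] at h
    have hne : (U.1 : Set X).Nonempty := ⟨x, hxU⟩
    have hbij := bijective_chart hL hN q hR U hne e he f hf hfu hNu
    have het : (π.app U.1).hom.Etale := by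
      letI := (π.app U.1).hom.toAlgebra
      haveI := etale_pol hN f hfu hNu
      refine RingHom.etale_algebraMap.2 (Algebra.Etale.of_equiv (A := AdjoinRoot (pol N f))
        (AlgEquiv.ofBijective { CycCov.chart R U e (cycGen he) f hf with
          commutes' := fun a => chart_of U e (cycGen he) f hf a } hbij))
    haveI : IsAffine (U.1 : Scheme.{u}) := U.2
    haveI : IsAffine (π ⁻¹ᵁ U.1 : Y.Opens).toScheme := U.2.preimage π
    rw [HasRingHomProperty.iff_of_isAffine (P := @Etale), morphismRestrict_appTop]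
    have aux : ∀ (U' : X.Opens), U' = U.1 → ∀ (Z : Y.Opens) (e2 : Z = π ⁻¹ᵁ U'),
        ((π.app U' ≫ Y.presheaf.map (eqToHom e2).op).hom).Etale := by
      intro U' e1 Z e2
      subst e1 e2
      simpa using het
    exact aux _ U.1.ι_image_top _ _
  choose U hxU hUW hU using key
  refine (IsZariskiLocalAtTarget.iff_of_iSup_eq_top (P := @Etale) (fun x : W => W.ι ⁻¹ᵁ (U x.1 x.2).1) ?_).2 fun x => ?_
  · exact eq_top_iff.2 fun y _ => Opens.mem_iSup.2 ⟨⟨y.1, y.2⟩, hxU _ _⟩
  · refine (MorphismProperty.arrow_mk_iso_iff @Etale (morphismRestrictRestrict π W _)).2 ?_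
    have heq : W.ι ''ᵁ (W.ι ⁻¹ᵁ (U x.1 x.2).1) = (U x.1 x.2).1 := by
      rw [Scheme.Hom.image_preimage_eq_opensRange_inf, Scheme.Opens.opensRange_ι, inf_eq_right.2 (hUW _ _)]
    rw [heq]
    exact hU _ _

end Groth.Agent.CycCov12
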