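import Groth.Agent.Lib.CycCov12.Alg
import Groth.Agent.Lib.Twist.UniversalExist
import Groth.Agent.Lib.KoszShH13.Stalk
import Groth.Prelude.Def_CycCov

/-!
# Frames of an invertible module and the charts of a cyclic cover
-/

set_option autoImplicit false
set_option backward.isDefEq.respectTransparency false
set_option linter.style.haveILetI false

universe u

open CategoryTheory AlgebraicGeometry Opposite TopologicalSpace TensorProduct

noncomputable section

namespace Groth.Agent.CycCov12

open Groth.Agent Groth.Agent.M1 Groth.Agent.CycCover13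

variable {X : Scheme.{u}} {L : X.Modules}

theorem isGen_one (U : X.Opens) :
    Twist.IsGen (Coh.structureModule X) U (show Γ(Coh.structureModule X, U) from (1 : Γ(X, U))) := fun W hW => by
  have : (fun r : Γ(X, W) => r • M1.mres (Coh.structureModule X) hW (show Γ(Coh.structureModule X, U) from (1 : Γ(X, U)))) =
      fun r => (show Γ(Coh.structureModule X, W) from r) := funext fun r => by
    show r * X.presheaf.map (homOfLE hW).op (1 : Γ(X, U)) = r
    rw [map_one, mul_one]
  rw [this]
  exact Function.bijective_id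

theorem lpow_mres {U V : X.Opens} (h : V ≤ U) (e : Γ(L, U)) (n : ℕ) :
    M1.mres (CohB1.tensorPow L n) h (CycCov.lpow L U e n) = CycCov.lpow L V (M1.mres L h e) n := by
  induction n with
  | zero => exact map_one (X.presheaf.map (homOfLE h).op).hom
  | succ n ih => exact (KoszShH13.mres_tmul h _ _).trans (congrArg (fun t => SecTwist.tmul _ L V t _) ih)

/-- Tensor powers of a frame are frames. -/
theorem isGen_lpow {U : X.Opens} {e : Γ(L, U)} (he : Twist.IsGen L U e) (n : ℕ) :
    Twist.IsGen (CohB1.tensorPow L n) U (CycCov.lpow L U e n) := by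
  induction n with
  | zero => exact isGen_one U
  | succ n ih =>
    refine Twist.isGen_of_stalk fun x hx => ?_
    have h := (KoszShH13.bijective_tau (M := CohB1.tensorPow L n) (he.stalk hx)).comp (ih.stalk hx)
    refine Eq.subst (motive := Function.Bijective) (funext fun c => ?_) h
    show KoszShH13.tau _ _ (c • _) = c • _
    rw [map_smul, KoszShH13.tau_germ _ _ hx e rfl]
    rfl

theorem cycGen {U : X.Opens} {e : Γ(L, U)} (he : Twist.IsGen L U e) : CycCov.IsGen L U e := by
  refine Eq.subst (motive := Function.Bijective) (funext fun b => ?_) (he U le_rfl)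
  exact congrArg (fun t => b • t) (CategoryTheory.congr_fun (L.presheaf.map_id (op U)) e)

theorem exists_frame (hL : PicF.IsInvertible L) {x : X} {V : X.Opens} (hx : x ∈ V) :
    ∃ U : X.affineOpens, x ∈ U.1 ∧ U.1 ≤ V ∧ ∃ e : Γ(L, U.1), Twist.IsGen L U.1 e := by
  obtain ⟨D, g, hxD, hg⟩ := ProjUP.exists_isGen_of_invertible hL x
  obtain ⟨U, hU, hxU, hUV⟩ := exists_isAffineOpen_mem_and_subset (U := V ⊓ D) (x := x) ⟨hx, hxD⟩
  exact ⟨⟨U, hU⟩, hxU, hUV.trans inf_le_left, _, hg.mres (hUV.trans inf_le_right)⟩

theorem exists_coeff {U : X.Opens} {e : Γ(L, U)} (he : Twist.IsGen L U e) {N : ℕ}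
    (s : Coh.structureModule X ⟶ CohB1.tensorPow L N) :
    ∃ f : Γ(X, U), SecTwist.val s U = f • CycCov.lpow L U e N := by
  obtain ⟨f, hf⟩ := (cycGen (isGen_lpow he N)).2 (SecTwist.val s U)
  exact ⟨f, hf.symm⟩

theorem coeff_res {U V : X.Opens} (h : V ≤ U) {e : Γ(L, U)} {N : ℕ}
    {s : Coh.structureModule X ⟶ CohB1.tensorPow L N} {f : Γ(X, U)}
    (hf : SecTwist.val s U = f • CycCov.lpow L U e N) :
    SecTwist.val s V = ores h f • CycCov.lpow L V (M1.mres L h e) N := by
  rw [← SecTwist.map_val s (homOfLE h), hf, ← lpow_mres h e N]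
  exact M1.mres_smul (CohB1.tensorPow L N) h f _

theorem eval_root {A B : Type u} [CommRing A] [CommRing B] {N : ℕ} (κ : A →+* B) (f : A) :
    (pol N f).eval₂ ((AdjoinRoot.of (pol N (κ f))).comp κ) (AdjoinRoot.root (pol N (κ f))) = 0 := by
  have h := AdjoinRoot.eval₂_root (pol N (κ f))
  rw [Polynomial.eval₂_sub, Polynomial.eval₂_X_pow, Polynomial.eval₂_C] at h ⊢
  exact h

/-- The charts of a root commute with restriction. -/
theorem chart_res {Y : Scheme.{u}} {π : Y ⟶ X} {N : ℕ} {s : Coh.structureModule X ⟶ CohB1.tensorPow L N}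
    (R : CycCov.Root L N s π) {U V : X.affineOpens} (h : V.1 ≤ U.1) (e : Γ(L, U.1)) (he : Twist.IsGen L U.1 e)
    (f : Γ(X, U.1)) (hf : SecTwist.val s U.1 = f • CycCov.lpow L U.1 e N)
    (z : AdjoinRoot (pol N f)) :
    Y.presheaf.map (homOfLE (π.preimage_mono h)).op (CycCov.chart R U e (cycGen he) f hf z) =
      CycCov.chart R V (M1.mres L h e) (cycGen (he.mres h)) (ores h f) (coeff_res h hf)
        (AdjoinRoot.lift ((AdjoinRoot.of (pol N (ores h f))).comp (ores h).hom) (AdjoinRoot.root _)
          (eval_root (ores h).hom f) z) := by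
  obtain ⟨q, rfl⟩ := AdjoinRoot.mk_surjective z
  induction q using Polynomial.induction_on' with
  | add p q hp hq => simp only [map_add, hp, hq]
  | monomial n a =>
    simp only [CycCov.chart, ← Polynomial.C_mul_X_pow_eq_monomial, map_mul, map_pow, AdjoinRoot.mk_C,
      AdjoinRoot.mk_X, AdjoinRoot.lift_of, AdjoinRoot.lift_root, RingHom.comp_apply]
    congr 1
    · exact congrArg (fun t => t a) (congrArg (fun φ => φ.hom) (π.naturality (homOfLE h).op)).symm
    · exact congrArg (· ^ n) (R.t_res U V h e (cycGen he) (cycGen (he.mres h)))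

end Groth.Agent.CycCov12
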