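import Groth.Agent.Lib.CycCov12.Etale
import Groth.Agent.Lib.CycCov12.Capelli

/-!
# Irreducibility of cyclic covers
-/

set_option autoImplicit false
set_option backward.isDefEq.respectTransparency false
set_option linter.style.haveILetI false

universe u

open CategoryTheory AlgebraicGeometry Opposite TopologicalSpace TensorProduct

noncomputable section

namespace Groth.Agent.CycCov12

open Groth.Agent Groth.Agent.M1 Groth.Agent.CycCover13

variable {X Y : Scheme.{u}} {L : X.Modules}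

/-- A frame change by `u` on stalks multiplies the `n`-th power by `u ^ n`. -/
theorem germ_lpow {U U' : X.Opens} (e : Γ(L, U)) (e' : Γ(L, U')) {x : X} (hx : x ∈ U) (hx' : x ∈ U')
    (u : X.presheaf.stalk x)
    (h : (L.presheaf.germ U x hx e : L.presheaf.stalk x) = u • (L.presheaf.germ U' x hx' e' : L.presheaf.stalk x))
    (n : ℕ) :
    ((CohB1.tensorPow L n).presheaf.germ U x hx (CycCov.lpow L U e n) : (CohB1.tensorPow L n).presheaf.stalk x) =
      u ^ n • ((CohB1.tensorPow L n).presheaf.germ U' x hx' (CycCov.lpow L U' e' n) :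
        (CohB1.tensorPow L n).presheaf.stalk x) := by
  induction n with
  | zero =>
    rw [pow_zero, one_smul]
    have h1 := lpow_mres (inf_le_left : U ⊓ U' ≤ U) e 0
    have h2 := lpow_mres (inf_le_right : U ⊓ U' ≤ U') e' 0
    rw [← M1.germ_mres (CohB1.tensorPow L 0) inf_le_left (⟨hx, hx'⟩ : x ∈ U ⊓ U'), h1,
      ← M1.germ_mres (CohB1.tensorPow L 0) inf_le_right (⟨hx, hx'⟩ : x ∈ U ⊓ U') (CycCov.lpow L U' e' 0), h2]
    rfl
  | succ n ih =>
    refine (M2.stalkEquiv (CohB1.tensorPow L n) L x).injective ?_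
    refine (KoszShH13.stalkEquiv_tmul hx _ _).trans ?_
    refine Eq.trans ?_ (LinearEquiv.map_smul _ _ _).symm
    rw [h, ih, TensorProduct.tmul_smul, ← TensorProduct.smul_tmul', smul_smul, ← pow_succ']
    exact congrArg (u ^ (n + 1) • ·) (KoszShH13.stalkEquiv_tmul hx' _ _).symm

variable [IsIntegral X]

theorem mem_generic {U : X.Opens} (hU : (U : Set X).Nonempty) : genericPoint X ∈ U :=
  ((genericPoint_spec X).mem_open_set_iff U.2).2 (by simpa using hU)

/-- Sections of a module with local frames are determined at the generic point. -/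
theorem eq_of_germ {M : X.Modules}
    (hM : ∀ x : X, ∃ (D : X.Opens) (g : Γ(M, D)), x ∈ D ∧ Twist.IsGen M D g) {V : X.Opens}
    (hV : genericPoint X ∈ V) (a b : Γ(M, V))
    (h : M.presheaf.germ V _ hV a = M.presheaf.germ V _ hV b) : a = b := by
  refine M1.section_ext _ _ fun x hx => ?_
  obtain ⟨D, g, hxD, hg⟩ := hM x
  obtain ⟨ra, hra⟩ := (hg (V ⊓ D) inf_le_right).2 (M1.mres M (inf_le_left : V ⊓ D ≤ V) a)
  obtain ⟨rb, hrb⟩ := (hg (V ⊓ D) inf_le_right).2 (M1.mres M (inf_le_left : V ⊓ D ≤ V) b)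
  have hη : genericPoint X ∈ V ⊓ D := mem_generic ⟨x, hx, hxD⟩
  haveI : Nonempty (V ⊓ D : X.Opens) := ⟨⟨_, hη⟩⟩
  have e : ra = rb := by
    refine X.germToFunctionField_injective (V ⊓ D) ((hg.stalk hη.2).1 ?_)
    have ea := congrArg (M.presheaf.germ (V ⊓ D) _ hη) hra
    have eb := congrArg (M.presheaf.germ (V ⊓ D) _ hη) hrb
    rw [M1.germ_smul, M1.germ_mres, M1.germ_mres] at ea eb
    exact ea.trans (h.trans eb.symm)
  have : M1.mres M (inf_le_left : V ⊓ D ≤ V) a = M1.mres M (inf_le_left : V ⊓ D ≤ V) b := by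
    rw [← hra, ← hrb, e]
  rw [← M1.germ_mres M (inf_le_left : V ⊓ D ≤ V) (⟨hx, hxD⟩ : x ∈ V ⊓ D) a, this, M1.germ_mres]

theorem exists_lpow_frame (hL : PicF.IsInvertible L) (n : ℕ) (x : X) :
    ∃ (D : X.Opens) (g : Γ(CohB1.tensorPow L n, D)), x ∈ D ∧ Twist.IsGen (CohB1.tensorPow L n) D g := by
  obtain ⟨U, hx, -, e, he⟩ := exists_frame hL (x := x) (V := ⊤) trivial
  exact ⟨U.1, _, hx, isGen_lpow he n⟩

section

variable {N : ℕ} {s : Coh.structureModule X ⟶ CohB1.tensorPow L N}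

theorem germ_val {U U₀ : X.Opens} (e : Γ(L, U)) (e₀ : Γ(L, U₀)) (he₀ : Twist.IsGen L U₀ e₀) {n : ℕ}
    (σ : Coh.structureModule X ⟶ CohB1.tensorPow L n) (hη : genericPoint X ∈ U) (hη₀ : genericPoint X ∈ U₀)
    (u : X.functionField)
    (hu : (L.presheaf.germ U _ hη e : L.presheaf.stalk (genericPoint X)) =
      u • (L.presheaf.germ U₀ _ hη₀ e₀ : L.presheaf.stalk (genericPoint X)))
    {a : Γ(X, U)} (ha : SecTwist.val σ U = a • CycCov.lpow L U e n) {c : Γ(X, U₀)}
    (hc : SecTwist.val σ U₀ = c • CycCov.lpow L U₀ e₀ n) :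
    X.presheaf.germ U _ hη a * u ^ n = X.presheaf.germ U₀ _ hη₀ c := by
  have h1 : (CohB1.tensorPow L n).presheaf.germ U _ hη (SecTwist.val σ U) =
      (CohB1.tensorPow L n).presheaf.germ U₀ _ hη₀ (SecTwist.val σ U₀) := by
    rw [← M1.germ_mres _ (inf_le_left : U ⊓ U₀ ≤ U) (⟨hη, hη₀⟩ : genericPoint X ∈ U ⊓ U₀),
      ← M1.germ_mres _ (inf_le_right : U ⊓ U₀ ≤ U₀) (⟨hη, hη₀⟩ : genericPoint X ∈ U ⊓ U₀) (SecTwist.val σ U₀)]
    exact congrArg _ ((SecTwist.map_val σ (homOfLE inf_le_left)).trans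
      (SecTwist.map_val σ (homOfLE inf_le_right)).symm)
  rw [ha, hc, M1.germ_smul, M1.germ_smul, germ_lpow e e₀ hη hη₀ u hu, smul_smul] at h1
  exact (((isGen_lpow he₀ n).stalk hη₀).1) h1

variable {π : Y ⟶ X} {R : CycCov.Root L N s π} (hL : PicF.IsInvertible L) (hN : 0 < N)

include hL hN in
/-- The cover is irreducible iff the generic chart is a domain. -/
theorem irreducibleSpace_iff (hR : CycCov.IsCover R) {W₀ : X.Opens}
    (hbij : ∀ (U : X.affineOpens), U.1 ≤ W₀ → ∀ (e : L.val.obj (op U.1)) (he : CycCov.IsGen L U.1 e) (f : Γ(X, U.1))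
      (hf : SecTwist.val s U.1 = f • CycCov.lpow L U.1 e N), Function.Bijective (CycCov.chart R U e he f hf))
    (U : X.affineOpens) (hUW : U.1 ≤ W₀) (hU : (U.1 : Set X).Nonempty) (e : Γ(L, U.1))
    (he : Twist.IsGen L U.1 e) (f : Γ(X, U.1)) (hf : SecTwist.val s U.1 = f • CycCov.lpow L U.1 e N) :
    IrreducibleSpace Y ↔ IsDomain (AdjoinRoot (pol N f)) := by
  haveI := hR.1
  haveI := isReduced_of_isNormalScheme hR.2.1
  let E := RingEquiv.ofBijective _ (hbij U hUW e (cycGen he) f hf)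
  let P := π ⁻¹ᵁ U.1
  haveI : IsAffine P.toScheme := U.2.preimage π
  haveI : Nonempty U.1 := ⟨⟨_, hU.some_mem⟩⟩
  have hd := dense_preimage hL hN hR hU
  have hYne : Nonempty Y := by
    haveI : Nontrivial (AdjoinRoot (pol N f)) := AdjoinRoot.nontrivial _ (by
      haveI : Nontrivial Γ(X, U.1) := X.component_nontrivial U.1
      rw [Polynomial.degree_eq_natDegree (monic_pol hN f).ne_zero, natDegree_pol hN]
      exact_mod_cast hN.ne')
    haveI := E.symm.toEquiv.nontrivial
    by_contra h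
    rw [not_nonempty_iff] at h
    haveI : Subsingleton Γ(Y, P) := by
      have hb : P = ⊥ := eq_bot_iff.2 fun y _ => h.elim y
      rw [hb]
      exact CommRingCat.subsingleton_of_isTerminal (Y.sheaf.isTerminalOfEmpty)
    exact not_nontrivial Γ(Y, P) inferInstance
  have hPne : (P : Set Y).Nonempty := hd.nonempty
  haveI : Nonempty P := ⟨⟨_, hPne.some_mem⟩⟩
  haveI : Nonempty P.toScheme := ‹Nonempty P›
  constructor
  · intro h
    haveI := isIntegral_of_irreducibleSpace_of_isReduced (X := Y)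
    exact E.injective.isDomain E.toRingHom
  · intro h
    haveI := E.symm.injective.isDomain E.symm.toRingHom
    haveI : IsDomain Γ(P.toScheme, ⊤) := (RingEquiv.symm P.topIso.commRingCatIsoToRingEquiv.symm).injective.isDomain
      (RingEquiv.symm P.topIso.commRingCatIsoToRingEquiv.symm).toRingHom
    haveI := isIntegral_of_isAffine_of_isDomain (X := P.toScheme)
    have hP : IsPreirreducible (P : Set Y) := by
      have h1 := (IrreducibleSpace.isIrreducible_univ P.toScheme).2.image P.ι P.ι.continuous.continuousOn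
      rwa [Set.image_univ, Scheme.Opens.range_ι] at h1
    have h2 := hP.closure
    rw [hd.closure_eq] at h2
    exact { toPreirreducibleSpace := ⟨h2⟩, toNonempty := hYne }

variable {k : Type u} [Field k] [IsAlgClosed k] (q : X ⟶ Spec (CommRingCat.of k)) [Smooth q]

include q hL hN in
theorem not_irreducible_iff (hNk : (N : k) ≠ 0) (hR : CycCov.IsCover R) :
    ¬ IrreducibleSpace Y ↔
      ∃ μ : ℕ, 1 < μ ∧ μ ∣ N ∧ ∃ s' : Coh.structureModule X ⟶ CohB1.tensorPow L (N / μ),
        ∀ (U : X.affineOpens) (e : L.val.obj (op U.1)), CycCov.IsGen L U.1 e →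
          ∀ a b : Γ(X, U.1), SecTwist.val s U.1 = a • CycCov.lpow L U.1 e N →
            SecTwist.val s' U.1 = b • CycCov.lpow L U.1 e (N / μ) → a = b ^ μ := by
  obtain ⟨-, -, W₀, hW₀, -, hbij⟩ := id hR
  haveI : Nonempty X := inferInstance
  obtain ⟨x₀, hx₀⟩ := hW₀.nonempty
  obtain ⟨U₀, hxU₀, hUW, e₀, he₀⟩ := exists_frame hL hx₀
  obtain ⟨f, hf⟩ := exists_coeff he₀ s
  have hne : (U₀.1 : Set X).Nonempty := ⟨x₀, hxU₀⟩
  haveI : Nonempty U₀.1 := ⟨⟨x₀, hxU₀⟩⟩
  have hη₀ : genericPoint X ∈ U₀.1 := mem_generic hne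
  haveI := functionField_isFractionRing_of_isAffineOpen X U₀.1 U₀.2
  haveI := AffRep19.isIntegrallyClosed_of_smooth q U₀.1 U₀.2 hne
  let c : X.functionField := algebraMap Γ(X, U₀.1) X.functionField f
  obtain ⟨ζ, hζ⟩ : ∃ ζ : X.functionField, IsPrimitiveRoot ζ N := by
    haveI : NeZero (N : k) := ⟨hNk⟩
    obtain ⟨z, hz⟩ := HasEnoughRootsOfUnity.exists_primitiveRoot k N
    exact ⟨_, hz.map_of_injective (f := ((Scheme.ΓSpecIso (CommRingCat.of k)).inv ≫ q.appLE ⊤ U₀.1 le_top ≫
      X.presheaf.germ U₀.1 _ hη₀).hom) (RingHom.injective _)⟩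
  rw [irreducibleSpace_iff hL hN hR hbij U₀ hUW hne e₀ he₀ f hf,
    isDomain_pol_iff (K := X.functionField) hN f, irreducible_iff_not_pow hN hζ]
  constructor
  · intro h
    push_neg at h
    obtain ⟨μ, hμ, hμN, β, hβ⟩ := h
    refine ⟨μ, hμ, hμN, ?_⟩
    obtain ⟨d, hd⟩ : ∃ d, N / μ = d := ⟨_, rfl⟩
    rw [hd]
    have hNd : N = d * μ := by rw [← hd, Nat.div_mul_cancel hμN]
    let M := CohB1.tensorPow L d
    let τ : M.presheaf.stalk (genericPoint X) :=
      β • (M.presheaf.germ U₀.1 _ hη₀ (CycCov.lpow L U₀.1 e₀ d) : M.presheaf.stalk (genericPoint X))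
    have hloc : ∀ x : X, ∃ (U : X.Opens) (hη : genericPoint X ∈ U) (σ : Γ(M, U)), x ∈ U ∧
        M.presheaf.germ U _ hη σ = τ := fun x => by
      obtain ⟨U, hxU, -, e, he⟩ := exists_frame hL (x := x) (V := ⊤) trivial
      have hneU : (U.1 : Set X).Nonempty := ⟨x, hxU⟩
      have hη : genericPoint X ∈ U.1 := mem_generic hneU
      haveI : Nonempty U.1 := ⟨⟨x, hxU⟩⟩
      haveI := functionField_isFractionRing_of_isAffineOpen X U.1 U.2
      haveI := AffRep19.isIntegrallyClosed_of_smooth q U.1 U.2 hneU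
      obtain ⟨u, hu⟩ := (he₀.stalk hη₀).2 (L.presheaf.germ U.1 _ hη e)
      obtain ⟨a, ha⟩ := exists_coeff he s
      have h1 : algebraMap Γ(X, U.1) X.functionField a * u ^ N = c :=
        germ_val e e₀ he₀ s hη hη₀ u hu.symm ha hf
      have hu0 : u ≠ 0 := fun h0 => by
        have h2 : (fun r : X.functionField => r • (L.presheaf.germ U.1 _ hη e : L.presheaf.stalk (genericPoint X))) 1 =
            (fun r : X.functionField => r • (L.presheaf.germ U.1 _ hη e : L.presheaf.stalk (genericPoint X))) 0 := by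
          simp only [← hu, h0, zero_smul, smul_zero]
        exact one_ne_zero ((he.stalk hη).1 h2)
      have h3 : (β / u ^ d) ^ μ = algebraMap Γ(X, U.1) X.functionField a := by
        rw [div_pow, hβ, ← pow_mul, ← hNd]
        show c / u ^ N = _
        rw [← h1, mul_div_assoc, div_self (pow_ne_zero _ hu0), mul_one]
      obtain ⟨b, hb⟩ := IsIntegrallyClosed.isIntegral_iff.1
        (IsIntegral.of_pow (by omega : 0 < μ) (h3 ▸ isIntegral_algebraMap) : IsIntegral Γ(X, U.1) (β / u ^ d))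
      refine ⟨U.1, hη, b • CycCov.lpow L U.1 e d, hxU, ?_⟩
      rw [M1.germ_smul, germ_lpow e e₀ hη hη₀ u hu.symm, smul_smul,
        show X.presheaf.germ U.1 (genericPoint X) hη b = β / u ^ d from hb, div_mul_cancel₀ _ (pow_ne_zero _ hu0)]
    choose U hη σ hxU hσ using hloc
    obtain ⟨t, ht, -⟩ := TopCat.Sheaf.existsUnique_gluing' ⟨_, M.isSheaf⟩ U ⊤ (fun x => homOfLE le_top)
      (fun x _ => Opens.mem_iSup.2 ⟨x, hxU x⟩) σ fun x y => by
        show M1.mres M (inf_le_left : U x ⊓ U y ≤ U x) (σ x) = M1.mres M (inf_le_right : U x ⊓ U y ≤ U y) (σ y)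
        refine eq_of_germ (exists_lpow_frame hL d) (V := U x ⊓ U y) ⟨hη x, hη y⟩ _ _ ?_
        rw [M1.germ_mres, M1.germ_mres, hσ, hσ]
    refine ⟨M1.secHom t, fun V e he a b ha hb => ?_⟩
    rcases (V.1 : Set X).eq_empty_or_nonempty with hV | hV
    · haveI : Subsingleton Γ(X, V.1) := by
        rw [show V.1 = ⊥ from SetLike.coe_injective hV]
        exact CommRingCat.subsingleton_of_isTerminal (X.sheaf.isTerminalOfEmpty)
      exact Subsingleton.elim _ _
    · have hηV : genericPoint X ∈ V.1 := mem_generic hV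
      haveI : Nonempty V.1 := ⟨⟨_, hηV⟩⟩
      obtain ⟨u, hu⟩ := (he₀.stalk hη₀).2 (L.presheaf.germ V.1 _ hηV e)
      have hu0 : u ≠ 0 := fun h0 => by
        have hz : (L.presheaf.germ V.1 (genericPoint X) hηV e : L.presheaf.stalk (genericPoint X)) = 0 := by
          rw [← hu, h0]
          exact zero_smul _ _
        have he0 : e = (0 : Γ(L, V.1)) :=
          eq_of_germ (fun x => ProjUP.exists_isGen_of_invertible hL x) hηV e 0 (hz.trans (map_zero _).symm)
        have : (fun r : Γ(X, V.1) => r • e) 1 = (fun r : Γ(X, V.1) => r • e) 0 := by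
          simp only [he0]
          exact (smul_zero _).trans (smul_zero _).symm
        exact one_ne_zero (he.1 this)
      have h1 : X.presheaf.germ V.1 _ hηV a * u ^ N = c := germ_val e e₀ he₀ s hηV hη₀ u hu.symm ha hf
      obtain ⟨b₀, hb₀⟩ := exists_coeff he₀ (M1.secHom t)
      have h2 : X.presheaf.germ V.1 _ hηV b * u ^ d = X.presheaf.germ U₀.1 _ hη₀ b₀ :=
        germ_val e e₀ he₀ _ hηV hη₀ u hu.symm hb hb₀
      have hval : SecTwist.val (M1.secHom t) U₀.1 = M1.mres M (le_top : U₀.1 ≤ ⊤) t :=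
        (Twist.secHom_app t U₀.1 1).trans (one_smul _ _)
      have h4 : X.presheaf.germ U₀.1 _ hη₀ b₀ = β := by
        refine ((isGen_lpow he₀ d).stalk hη₀).1 ?_
        show _ = τ
        have e1 := congrArg (M.presheaf.germ U₀.1 _ hη₀) hb₀
        rw [hval, M1.germ_mres, M1.germ_smul] at e1
        refine e1.symm.trans ?_
        have e2 := hσ (genericPoint X)
        rw [← ht (genericPoint X)] at e2
        exact (M1.germ_mres M (le_top : U (genericPoint X) ≤ ⊤) _ t).symm.trans e2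
      refine X.germToFunctionField_injective V.1 ?_
      rw [map_pow]
      show X.presheaf.germ V.1 _ hηV a = (X.presheaf.germ V.1 _ hηV b) ^ μ
      refine mul_right_cancel₀ (pow_ne_zero N hu0) ?_
      rw [h1]
      show algebraMap Γ(X, U₀.1) X.functionField f = _
      rw [← hβ, ← h4, ← h2, mul_pow, ← pow_mul, ← hNd]
  · rintro ⟨μ, hμ, hμN, s', hs'⟩ h
    obtain ⟨b, hb⟩ := exists_coeff he₀ (N := N / μ) s'
    refine h μ hμ hμN (algebraMap Γ(X, U₀.1) X.functionField b) ?_
    rw [← map_pow, ← hs' U₀ e₀ (cycGen he₀) f b hf hb]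

end

end Groth.Agent.CycCov12
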