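import Groth.Agent.Lib.CycCov12.Branch
import Groth.Agent.Lib.CycCov12.Chart
import Groth.Agent.Lib.EffCartier.Comap
import Groth.Agent.Lib.EffCartier.Mul
import Groth.Agent.Lib.CurveCartier25.Split

/-!
# The cyclic cover near a point on at most one branch component
-/

set_option autoImplicit false
set_option backward.isDefEq.respectTransparency false
set_option linter.style.haveILetI false
set_option maxHeartbeats 1000000

universe u

open CategoryTheory AlgebraicGeometry Opposite TopologicalSpace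

noncomputable section

namespace Groth.Agent.CycCov12

open Groth.Agent Groth.Agent.M1 Groth.Agent.CycCover13

variable {X : Scheme.{u}}

/-- Equality of ideals on an affine open is local. -/
theorem ideal_eq_of_local {I J : X.IdealSheafData} (V : X.affineOpens)
    (h : ∀ x ∈ V.1, ∃ P : X.affineOpens, x ∈ P.1 ∧ I.ideal P = J.ideal P) : I.ideal V = J.ideal V := by
  rw [V.2.ideal_ext_iff]
  intro x hx
  obtain ⟨P, hxP, hP⟩ := h x hx
  obtain ⟨O, hO, hxO, hOle⟩ := exists_isAffineOpen_mem_and_subset (U := V.1 ⊓ P.1) (x := x) ⟨hx, hxP⟩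
  have hOV : O ≤ V.1 := hOle.trans inf_le_left
  have hOP : O ≤ P.1 := hOle.trans inf_le_right
  have key : ∀ K : X.IdealSheafData, (K.ideal V).map (X.presheaf.germ V.1 x hx).hom =
      (K.ideal P).map (X.presheaf.germ P.1 x hxP).hom := fun K => by
    rw [← X.presheaf.germ_res (homOfLE hOV) x hxO, ← X.presheaf.germ_res (homOfLE hOP) x hxO,
      CommRingCat.hom_comp, CommRingCat.hom_comp, ← Ideal.map_map, ← Ideal.map_map]
    erw [K.map_ideal (U := ⟨O, hO⟩) (V := V) hOV, K.map_ideal (U := ⟨O, hO⟩) (V := P) hOP]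
  rw [key, key, hP]

theorem ideal_prod {ι : Type*} (s : Finset ι) (J : ι → X.IdealSheafData) (U : X.affineOpens) :
    (∏ i ∈ s, J i).ideal U = ∏ i ∈ s, (J i).ideal U :=
  map_prod (MonoidHom.mk (OneHom.mk (fun K : X.IdealSheafData => K.ideal U)
    (by rw [show (1 : X.IdealSheafData) = ⊤ from rfl]; simp)) fun A B => by simp) J s

theorem comap_pow' {Y : Scheme.{u}} (φ : Y ⟶ X) (A : X.IdealSheafData) :
    ∀ n : ℕ, (A ^ n).comap φ = A.comap φ ^ n
  | 0 => by rw [pow_zero, pow_zero, CurveCartier25.comap_one]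
  | n + 1 => by rw [pow_succ, EffCartier.comap_mul, comap_pow' φ A n, ← pow_succ]

variable [IsIntegral X] {Y : Scheme.{u}} {L : X.Modules} {N : ℕ}
  {s : Coh.structureModule X ⟶ CohB1.tensorPow L N} {π : Y ⟶ X} {R : CycCov.Root L N s π}
  (hL : PicF.IsInvertible L) (hN : 0 < N) {k : Type u} [Field k] (q : X ⟶ Spec (CommRingCat.of k)) [Smooth q]
  {r : ℕ} {D : Fin r → X.IdealSheafData} {α : Fin r → ℕ}

omit [IsIntegral X] in
theorem smooth_baseHom (U : X.affineOpens) : (baseHom q U.1).Smooth :=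
  RingHom.Smooth.respectsIso.cancel_left_isIso _ _ |>.2
    (q.smooth_appLE (isAffineOpen_top _) U.2 le_top)

include q hL hN in
/-- The cover is smooth over an affine open where the divisor is empty. -/
theorem smooth_of_unit (hs : CycCov.IsZeroDiv (CohB1.tensorPow L N) s (CycCov.divIdeal D α)) (hR : CycCov.IsCover R)
    (hNk : (N : k) ≠ 0) {x : X} {V : X.Opens} (hxV : x ∈ V) (hx : ∀ i, 0 < α i → x ∉ (D i).support) :
    ∃ U : X.affineOpens, x ∈ U.1 ∧ U.1 ≤ V ∧ ((π.app U.1).hom.comp (baseHom q U.1)).Smooth ∧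
      (π.app U.1).hom.Etale := by
  haveI : IsFinite π := hR.1
  let V' : X.Opens := ⟨V.1 ∩ ⋂ i, (if 0 < α i then ((D i).support : Set X)ᶜ else Set.univ),
    V.2.inter (isOpen_iInter_of_finite fun i => by
      split_ifs
      · exact (D i).support.isClosed.isOpen_compl
      · exact isOpen_univ)⟩
  have hxV' : x ∈ V' := ⟨hxV, Set.mem_iInter.2 fun i => by
    split_ifs with h
    · exact hx i h
    · trivial⟩
  obtain ⟨U, hxU, hUV, e, he⟩ := exists_frame hL (x := x) hxV'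
  obtain ⟨f, hf⟩ := exists_coeff he s
  refine ⟨U, hxU, hUV.trans fun y hy => hy.1, ?_⟩
  have hgen := cycGen (isGen_lpow he N)
  have hfu : IsUnit f := by
    have h1 := hs U
    rw [divIdeal_ideal_eq_top D α U (fun i hi y hy => by
      have := Set.mem_iInter.1 (hUV hy).2 i
      rw [if_pos hi] at this
      exact this), Submodule.top_smul, hf] at h1
    obtain ⟨a, ha⟩ := Submodule.mem_span_singleton.1
      (h1.ge (Submodule.mem_top (x := CycCov.lpow L U.1 e N)))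
    refine isUnit_iff_exists_inv.2 ⟨a, hgen.1 ?_⟩
    show (f * a) • CycCov.lpow L U.1 e N = (1 : Γ(X, U.1)) • CycCov.lpow L U.1 e N
    rw [mul_comm, ← smul_smul]
    exact ha.trans (one_smul _ _).symm
  have hNu : IsUnit (N : Γ(X, U.1)) := by
    have h := (IsUnit.mk0 (N : k) hNk).map (baseHom q U.1)
    rwa [map_natCast] at h
  have hbij := bijective_chart hL hN q hR U ⟨x, hxU⟩ e he f hf hfu hNu
  letI := (π.app U.1).hom.toAlgebra
  haveI := etale_pol hN f hfu hNu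
  haveI := Algebra.Etale.of_equiv (A := AdjoinRoot (pol N f))
    (AlgEquiv.ofBijective ({ CycCov.chart R U e (cycGen he) f hf with
      commutes' := fun a => chart_of U e (cycGen he) f hf a } :
        AdjoinRoot (pol N f) →ₐ[Γ(X, U.1)] Γ(Y, π ⁻¹ᵁ U.1)) hbij)
  exact ⟨RingHom.Smooth.stableUnderComposition _ _ (smooth_baseHom q U) (RingHom.smooth_algebraMap.2 inferInstance),
    RingHom.etale_algebraMap.2 inferInstance⟩

/-- The equation of the divisor in a frame. -/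
theorem exists_unit_coeff (hs : CycCov.IsZeroDiv (CohB1.tensorPow L N) s (CycCov.divIdeal D α)) {U : X.affineOpens}
    [Nonempty U.1] (e : Γ(L, U.1)) (he : Twist.IsGen L U.1 e) (f : Γ(X, U.1))
    (hf : SecTwist.val s U.1 = f • CycCov.lpow L U.1 e N) (j : Fin r) (v : Γ(X, U.1))
    (hjv : (D j).ideal U = Ideal.span {v}) (hmiss : ∀ i, i ≠ j → 0 < α i → (D i).ideal U = ⊤) :
    ∃ w, IsUnit w ∧ f = w * v ^ α j := by
  have hdiv : (CycCov.divIdeal D α).ideal U = Ideal.span {v ^ α j} := by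
    rw [CycCov.divIdeal, ideal_prod, Finset.prod_eq_single j (fun i _ hij => ?_)
      (fun h => absurd (Finset.mem_univ j) h), Scheme.IdealSheafData.ideal_pow, Pi.pow_apply, hjv,
      Ideal.span_singleton_pow]
    rw [Scheme.IdealSheafData.ideal_pow, Pi.pow_apply]
    rcases Nat.eq_zero_or_pos (α i) with h0 | h0
    · rw [h0, pow_zero]
    · rw [hmiss i hij h0, Ideal.top_pow, Ideal.one_eq_top]
  have hgen := cycGen (isGen_lpow he N)
  have h2 := hs U
  rw [hdiv, hf, show (⊤ : Submodule Γ(X, U.1) _) = Submodule.span Γ(X, U.1) {CycCov.lpow L U.1 e N} from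
    (eq_top_iff.2 fun y _ => by
      obtain ⟨b, hb⟩ := hgen.2 y
      exact Submodule.mem_span_singleton.2 ⟨b, hb⟩).symm, ← Ideal.submodule_span_eq, Submodule.span_smul_span,
    Set.singleton_smul_singleton] at h2
  have h3 : ∀ a b : Γ(X, U.1), a • CycCov.lpow L U.1 e N ∈ Submodule.span Γ(X, U.1)
      {b • CycCov.lpow L U.1 e N} → b ∣ a := fun a b h => by
    obtain ⟨t, ht⟩ := Submodule.mem_span_singleton.1 h
    refine ⟨t, hgen.1 ?_⟩
    show a • _ = (b * t) • _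
    rw [mul_comm, ← smul_smul]
    exact ht.symm
  obtain ⟨u, hu⟩ := associated_of_dvd_dvd (h3 _ _ (h2.le (Submodule.mem_span_singleton_self _)))
    (h3 _ _ (h2.ge (Submodule.mem_span_singleton_self _)))
  exact ⟨u, u.isUnit, by rw [← hu, mul_comm]⟩

include q hL hN in
/-- The cover near a point of exactly one branch component. -/
theorem branch_local (hD : LogNCD.IsNCD D q) (hs : CycCov.IsZeroDiv (CohB1.tensorPow L N) s (CycCov.divIdeal D α))
    (hR : CycCov.IsCover R) (hNk : (N : k) ≠ 0) {x : X} {V : X.Opens} (hxV : x ∈ V) (j : Fin r)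
    (hxj : x ∈ (D j).support) (h1 : ∀ i, 0 < α i → x ∈ (D i).support → i = j) :
    ∃ U : X.affineOpens, x ∈ U.1 ∧ U.1 ≤ V ∧ ((π.app U.1).hom.comp (baseHom q U.1)).Smooth ∧
      ∃ (v : Γ(X, U.1)) (S ω : Γ(Y, π ⁻¹ᵁ U.1)), (D j).ideal U = Ideal.span {v} ∧ IsUnit ω ∧
        π.app U.1 v = ω * S ^ (N / Nat.gcd N (α j)) ∧ (Ideal.span {S}).IsRadical := by
  obtain ⟨W', hxW', n, c, ε, -, het, hideal, hmiss⟩ := hD x ⟨⟨j, hxj⟩⟩
  obtain ⟨U, hxU, hUV, e, he⟩ := exists_frame hL (x := x) (V := V ⊓ W') ⟨hxV, hxW'⟩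
  have hUW : U.1 ≤ W' := hUV.trans inf_le_right
  obtain ⟨f, hf⟩ := exists_coeff he s
  obtain ⟨θ, hθ, hθC, hθX⟩ := exists_etale_param q c het U.2 hUW
  letI : Algebra k Γ(X, U.1) := (baseHom q U.1).toAlgebra
  let θ' : MvPolynomial (ULift.{u} (Fin n)) k →ₐ[k] Γ(X, U.1) := { θ with commutes' := hθC }
  let jj : ULift.{u} (Fin n) := ULift.up (ε ⟨j, hxj⟩)
  let v := θ' (MvPolynomial.X jj)
  have hjv : (D j).ideal U = Ideal.span {v} := (hideal ⟨j, hxj⟩ U hUW).trans (by rw [← hθX]; rfl)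
  haveI : Nonempty U.1 := ⟨⟨x, hxU⟩⟩
  obtain ⟨w, hw, hfw⟩ := exists_unit_coeff hs e he f hf j v hjv fun i hij h0 =>
    hmiss i (fun hi => hij (h1 i h0 hi)) U hUW
  obtain ⟨hsm, S, ω, hω, hv, hS, -⟩ := branch_chart hL hN (k := k) hR U ⟨x, hxU⟩ e he f hf θ' hθ jj (α j) w hw hfw hNk
  exact ⟨U, hxU, hUV.trans inf_le_left, hsm, v, S, ω, hjv, hω, hv, hS⟩

include q hL hN in
theorem smooth_preimage (hD : LogNCD.IsNCD D q)
    (hs : CycCov.IsZeroDiv (CohB1.tensorPow L N) s (CycCov.divIdeal D α)) (hR : CycCov.IsCover R)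
    (hNk : (N : k) ≠ 0) (W : X.Opens)
    (hW : ∀ x ∈ W, ∀ j j' : Fin r, 0 < α j → 0 < α j' → x ∈ (D j).support → x ∈ (D j').support → j = j') :
    Smooth ((π ⁻¹ᵁ W).ι ≫ π ≫ q) := by
  haveI : IsFinite π := hR.1
  rw [HasRingHomProperty.iff_exists_appLE (P := @Smooth) (RingHom.Smooth.stableUnderComposition.stableUnderCompositionWithLocalizationAway
    RingHom.Smooth.holdsForLocalizationAway).1]
  intro y
  obtain ⟨U, hxU, hUW, hsm⟩ : ∃ U : X.affineOpens, π y.1 ∈ U.1 ∧ U.1 ≤ W ∧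
      ((π.app U.1).hom.comp (baseHom q U.1)).Smooth := by
    by_cases h : ∃ j, 0 < α j ∧ π y.1 ∈ (D j).support
    · obtain ⟨j, hj, hxj⟩ := h
      obtain ⟨U, h1, h2, h3, -⟩ := branch_local hL hN q hD hs hR hNk (V := W) y.2 j hxj
        fun i hi hxi => hW _ y.2 i j hi hj hxi hxj
      exact ⟨U, h1, h2, h3⟩
    · simp only [not_exists, not_and] at h
      obtain ⟨U, h1, h2, h3, -⟩ := smooth_of_unit hL hN q hs hR hNk (V := W) y.2 h
      exact ⟨U, h1, h2, h3⟩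
  have hP : IsAffineOpen ((π ⁻¹ᵁ W).ι ⁻¹ᵁ (π ⁻¹ᵁ U.1)) :=
    (U.2.preimage π).preimage_of_isOpenImmersion (π ⁻¹ᵁ W).ι (by
      rw [Scheme.Opens.opensRange_ι]
      exact π.preimage_mono hUW)
  refine ⟨⟨⊤, isAffineOpen_top _⟩, ⟨_, hP⟩, hxU, le_top, ?_⟩
  have hsmooth : ((π ≫ q).appLE ⊤ (π ⁻¹ᵁ U.1) le_top).hom.Smooth := by
    have h1 : (π ≫ q).appLE ⊤ (π ⁻¹ᵁ U.1) le_top = q.appLE ⊤ U.1 le_top ≫ π.app U.1 := by
      rw [Scheme.Hom.app_eq_appLE]
      exact (Scheme.Hom.appLE_comp_appLE π q ⊤ U.1 (π ⁻¹ᵁ U.1) le_top le_rfl).symm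
    rw [h1]
    exact (RingHom.Smooth.respectsIso.cancel_left_isIso (Scheme.ΓSpecIso (CommRingCat.of k)).inv
      (q.appLE ⊤ U.1 le_top ≫ π.app U.1)).1 hsm
  rw [← Scheme.Hom.appLE_comp_appLE (π ⁻¹ᵁ W).ι (π ≫ q) ⊤ (π ⁻¹ᵁ U.1) _ le_top le_rfl, CommRingCat.hom_comp]
  haveI : IsIso ((π ⁻¹ᵁ W).ι.appLE (π ⁻¹ᵁ U.1) ((π ⁻¹ᵁ W).ι ⁻¹ᵁ (π ⁻¹ᵁ U.1)) le_rfl) := by
    rw [← Scheme.Hom.app_eq_appLE]
    exact Scheme.Hom.isIso_app _ _ (by rw [Scheme.Opens.opensRange_ι]; exact π.preimage_mono hUW)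
  exact (RingHom.Smooth.respectsIso.cancel_right_isIso _ _).2 hsmooth

include q hL hN in
theorem comap_ideal_eq (hD : LogNCD.IsNCD D q)
    (hs : CycCov.IsZeroDiv (CohB1.tensorPow L N) s (CycCov.divIdeal D α)) (hR : CycCov.IsCover R)
    (hNk : (N : k) ≠ 0) (W : X.Opens)
    (hW : ∀ x ∈ W, ∀ j j' : Fin r, x ∈ (D j).support → x ∈ (D j').support → j = j')
    (j : Fin r) (V : Y.affineOpens) (hV : V.1 ≤ π ⁻¹ᵁ W) :
    ((D j).comap π).ideal V = (((D j).comap π).radical ^ (N / Nat.gcd N (α j))).ideal V := by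
  haveI : IsFinite π := hR.1
  refine ideal_eq_of_local V fun y hy => ?_
  have hn : N / Nat.gcd N (α j) ≠ 0 :=
    (Nat.div_pos (Nat.le_of_dvd hN (Nat.gcd_dvd_left _ _)) (Nat.gcd_pos_of_pos_left _ hN)).ne'
  by_cases hxj : π y ∈ (D j).support
  · obtain ⟨U, hxU, -, -, v, S, ω, hjv, hω, hv, hS⟩ := branch_local hL hN q hD hs hR hNk (V := W) (hV hy) j hxj
      fun i _ hi => hW _ (hV hy) i j hi hxj
    refine ⟨⟨π ⁻¹ᵁ U.1, U.2.preimage π⟩, hxU, ?_⟩
    have h1 : ((D j).comap π).ideal ⟨π ⁻¹ᵁ U.1, U.2.preimage π⟩ = Ideal.span {S} ^ (N / Nat.gcd N (α j)) := by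
      rw [EffCartier.comap_ideal _ π U _ le_rfl, hjv, Ideal.map_span, Set.image_singleton,
        ← Scheme.Hom.app_eq_appLE, hv, Ideal.span_singleton_mul_left_unit hω, Ideal.span_singleton_pow]
    rw [Scheme.IdealSheafData.ideal_pow, Pi.pow_apply, Scheme.IdealSheafData.radical_ideal, h1,
      Ideal.radical_pow _ hn, hS.radical]
  · obtain ⟨U, hU, hxU, hUle⟩ := exists_isAffineOpen_mem_and_subset
      (U := ⟨((D j).support : Set X)ᶜ, (D j).support.isClosed.isOpen_compl⟩) (x := π y) hxj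
    refine ⟨⟨π ⁻¹ᵁ U, hU.preimage π⟩, hxU, ?_⟩
    have h1 : ((D j).comap π).ideal ⟨π ⁻¹ᵁ U, hU.preimage π⟩ = ⊤ := by
      rw [EffCartier.comap_ideal _ π ⟨U, hU⟩ _ le_rfl, ideal_eq_top (D j) ⟨U, hU⟩ (fun z hz => hUle hz),
        Ideal.map_top]
    rw [Scheme.IdealSheafData.ideal_pow, Pi.pow_apply, Scheme.IdealSheafData.radical_ideal, h1, Ideal.radical_top,
      Ideal.top_pow]

include q hL hN in
theorem divIdeal_comap_ideal_eq (hD : LogNCD.IsNCD D q)
    (hs : CycCov.IsZeroDiv (CohB1.tensorPow L N) s (CycCov.divIdeal D α)) (hR : CycCov.IsCover R)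
    (hNk : (N : k) ≠ 0) (W : X.Opens)
    (hW : ∀ x ∈ W, ∀ j j' : Fin r, x ∈ (D j).support → x ∈ (D j').support → j = j')
    (V : Y.affineOpens) (hV : V.1 ≤ π ⁻¹ᵁ W) :
    ((CycCov.divIdeal D α).comap π).ideal V =
      (∏ j : Fin r, ((D j).comap π).radical ^ (N * α j / Nat.gcd N (α j))).ideal V := by
  rw [CycCov.divIdeal, CurveCartier25.comap_prod, ideal_prod, ideal_prod]
  refine Finset.prod_congr rfl fun j _ => ?_
  rw [comap_pow', Scheme.IdealSheafData.ideal_pow, Scheme.IdealSheafData.ideal_pow, Pi.pow_apply, Pi.pow_apply,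
    comap_ideal_eq hL hN q hD hs hR hNk W hW j V hV, Scheme.IdealSheafData.ideal_pow, Pi.pow_apply, ← pow_mul,
    Nat.mul_comm N (α j), Nat.mul_div_assoc _ (Nat.gcd_dvd_left N (α j)), Nat.mul_comm]

end Groth.Agent.CycCov12
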