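import Groth.Agent.Lib.CycCov12.Main

/-!
# The reduced preimage of the branch divisor has normal crossings
-/

set_option autoImplicit false
set_option backward.isDefEq.respectTransparency false
set_option linter.style.haveILetI false
set_option maxHeartbeats 1000000

universe u

open CategoryTheory AlgebraicGeometry Opposite TopologicalSpace

noncomputable section

namespace Groth.Agent.CycCov12

open Groth.Agent Groth.Agent.M1 Groth.Agent.CycCover13

variable {k : Type u} [Field k]

/-- Étale coordinates on an affine open give an étale map to affine space. -/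
theorem etale_homOfVector {Y : Scheme.{u}} (g : Y ⟶ Spec (CommRingCat.of k)) {σ : Type u} [Finite σ]
    {V : Y.Opens} (hV : IsAffineOpen V) (w : σ → Γ(Y, V))
    (hw : (MvPolynomial.eval₂Hom (baseHom g V) w).Etale) :
    Etale (AffineSpace.homOfVector (V.ι ≫ g) fun i => V.topIso.inv (w i)) := by
  haveI : IsAffine (V : Scheme.{u}) := hV
  let h := AffineSpace.homOfVector (V.ι ≫ g) fun i => V.topIso.inv (w i)
  let ψ : (V : Scheme.{u}) ⟶ Spec (CommRingCat.of (MvPolynomial σ k)) :=
    h ≫ (AffineSpace.SpecIso σ (CommRingCat.of k)).hom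
  haveI : Etale ψ := by
    rw [HasRingHomProperty.iff_of_isAffine (P := @Etale)]
    have hψ : ψ.appTop = (Scheme.ΓSpecIso _).hom ≫
        CommRingCat.ofHom (MvPolynomial.eval₂Hom (baseHom g V) w) ≫ V.topIso.inv := by
      rw [show ψ = h ≫ (AffineSpace.SpecIso σ (CommRingCat.of k)).hom from rfl, Scheme.Hom.comp_appTop,
        AffineSpace.SpecIso_hom_appTop, Category.assoc]
      congr 1
      have h2 : (Scheme.ΓSpecIso (CommRingCat.of k)).inv ≫
          (𝔸(σ; Spec (CommRingCat.of k)) ↘ Spec (CommRingCat.of k)).appTop ≫ h.appTop =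
          ((Scheme.ΓSpecIso (CommRingCat.of k)).inv ≫ g.appLE ⊤ V le_top) ≫ V.topIso.inv := by
        rw [Category.assoc]
        congr 1
        rw [← Scheme.Hom.comp_appTop, AffineSpace.homOfVector_over]
        simp [Scheme.Hom.appLE, ← Functor.map_comp]
      refine CommRingCat.hom_ext (MvPolynomial.ringHom_ext (fun c => ?_) fun i => ?_)
      · simp only [CommRingCat.hom_comp, CommRingCat.hom_ofHom, RingHom.comp_apply, MvPolynomial.eval₂Hom_C]
        exact DFunLike.congr_fun (congrArg CommRingCat.Hom.hom h2) c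
      · simp only [CommRingCat.hom_comp, CommRingCat.hom_ofHom, RingHom.comp_apply, MvPolynomial.eval₂Hom_X']
        exact AffineSpace.homOfVector_appTop_coord _ _ i
    rw [hψ, CommRingCat.hom_comp]
    refine (RingHom.Etale.respectsIso.cancel_left_isIso (Scheme.ΓSpecIso _).hom _).2 ?_
    rw [CommRingCat.hom_comp]
    exact (RingHom.Etale.respectsIso.cancel_right_isIso _ V.topIso.inv).2 hw
  have : h = ψ ≫ (AffineSpace.SpecIso σ (CommRingCat.of k)).inv := by simp [ψ]
  change Etale h
  rw [this]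
  infer_instance

theorem isRadical_coord {A : Type u} [CommRing A] {σ : Type u} [Finite σ] (φ : MvPolynomial σ k →+* A)
    (hφ : φ.Etale) (i : σ) : (Ideal.span {φ (MvPolynomial.X i)}).IsRadical := by
  letI : Algebra k A := (φ.comp MvPolynomial.C).toAlgebra
  let θ : MvPolynomial σ k →ₐ[k] A := { φ with commutes' := fun c => rfl }
  haveI : Algebra.FinitePresentation k A := by
    letI := φ.toAlgebra
    haveI : IsScalarTower k (MvPolynomial σ k) A := IsScalarTower.of_algebraMap_eq' rfl
    haveI : Algebra.Etale (MvPolynomial σ k) A := hφ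
    exact Algebra.FinitePresentation.trans k (MvPolynomial σ k) A
  have hfs : θ.toRingHom.FormallySmooth := by
    letI := θ.toRingHom.toAlgebra
    haveI : Algebra.Etale (MvPolynomial σ k) A := hφ
    exact (inferInstance : Algebra.FormallySmooth (MvPolynomial σ k) A)
  haveI := isReduced_quotient_coord θ hfs i
  exact (Ideal.isRadical_iff_quotient_reduced _).2 this

variable {X : Scheme.{u}} [IsIntegral X] {Y : Scheme.{u}} {L : X.Modules} {N : ℕ}
  {s : Coh.structureModule X ⟶ CohB1.tensorPow L N} {π : Y ⟶ X} {R : CycCov.Root L N s π}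
  (hL : PicF.IsInvertible L) (hN : 0 < N) (q : X ⟶ Spec (CommRingCat.of k)) [Smooth q]
  {r : ℕ} {D : Fin r → X.IdealSheafData} {α : Fin r → ℕ}

omit [IsIntegral X] [Smooth q] in
theorem baseHom_comp (U : X.Opens) {V : Y.Opens} (hVU : V ≤ π ⁻¹ᵁ U) :
    baseHom (π ≫ q) V = ((Y.presheaf.map (homOfLE hVU).op).hom.comp (π.app U).hom).comp (baseHom q U) := by
  rw [baseHom, baseHom, ← CommRingCat.hom_comp, ← CommRingCat.hom_comp, Category.assoc]
  congr 2
  exact (Scheme.Hom.appLE_comp_appLE π q ⊤ U V le_top hVU).symm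

include q hL hN in
theorem isNCD_radical (hD : LogNCD.IsNCD D q)
    (hs : CycCov.IsZeroDiv (CohB1.tensorPow L N) s (CycCov.divIdeal D α)) (hR : CycCov.IsCover R)
    (hNk : (N : k) ≠ 0)
    (hdisj : ∀ (x : X) (j j' : Fin r), 0 < α j → 0 < α j' → x ∈ (D j).support → x ∈ (D j').support → j = j') :
    LogNCD.IsNCD (fun j : Fin r => ((D j).comap π).radical) (π ≫ q) := by
  classical
  haveI : IsFinite π := hR.1
  intro y hy
  have hsupp : ∀ i, y ∈ ((D i).comap π).radical.support ↔ π y ∈ (D i).support := fun i => by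
    rw [Scheme.IdealSheafData.support_radical, Scheme.IdealSheafData.support_comap]
    exact Iff.rfl
  obtain ⟨⟨i₀, hi₀⟩⟩ := hy
  obtain ⟨W', hxW', n, c, ε, hinj, het, hideal, hmiss⟩ := hD (π y) ⟨⟨i₀, (hsupp i₀).1 hi₀⟩⟩
  suffices key : ∃ (U : X.affineOpens) (hUW : U.1 ≤ W') (V : Y.affineOpens) (hVU : V.1 ≤ π ⁻¹ᵁ U.1)
      (w : ULift.{u} (Fin n) → Γ(Y, V.1)), y ∈ V.1 ∧ (MvPolynomial.eval₂Hom (baseHom (π ≫ q) V.1) w).Etale ∧
      ∀ i : LogNCD.Through D (π y),
        (Ideal.span {(π.appLE U.1 V.1 hVU) (LogNCD.sectOn W' hUW (c (ULift.up (ε i))))}).radical =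
          Ideal.span {w (ULift.up (ε i))} by
    obtain ⟨U, hUW, V, hVU, w, hyV, hw, hrad⟩ := key
    let tr : LogNCD.Through (fun j : Fin r => ((D j).comap π).radical) y → LogNCD.Through D (π y) :=
      fun i => ⟨i.1, (hsupp i.1).1 i.2⟩
    refine ⟨V.1, hyV, n, fun i => V.1.topIso.inv (w i), fun i => ε (tr i),
      fun a b h => Subtype.ext (congrArg (fun t : LogNCD.Through D (π y) => t.1) (hinj h)), etale_homOfVector (π ≫ q) V.2 w hw,
      fun i O hO => ?_, fun i hi O hO => ?_⟩
    · have h1 : ((D i.1).comap π).radical.ideal V = Ideal.span {w (ULift.up (ε (tr i)))} := by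
        rw [Scheme.IdealSheafData.radical_ideal, EffCartier.comap_ideal _ π U V hVU, hideal (tr i) U hUW,
          Ideal.map_span, Set.image_singleton]
        exact hrad (tr i)
      show ((D i.1).comap π).radical.ideal O = _
      rw [← Scheme.IdealSheafData.map_ideal _ (U := O) (V := V) hO, h1, Ideal.map_span, Set.image_singleton,
        LogNCD.sectOn_apply, Iso.inv_hom_id_apply V.1.topIso]
      rfl
    · have h1 : ((D i).comap π).ideal V = ⊤ := by
        rw [EffCartier.comap_ideal _ π U V hVU, hmiss i (fun h => hi ((hsupp i).2 h)) U hUW, Ideal.map_top]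
      show ((D i).comap π).radical.ideal O = _
      rw [← Scheme.IdealSheafData.map_ideal _ (U := O) (V := V) hO, Scheme.IdealSheafData.radical_ideal, h1,
        Ideal.radical_top, Ideal.map_top]
  by_cases h : ∃ j, 0 < α j ∧ π y ∈ (D j).support
  · obtain ⟨j, hj, hxj⟩ := h
    obtain ⟨U, hxU, hUW, e, he⟩ := exists_frame hL (x := π y) hxW'
    obtain ⟨f, hf⟩ := exists_coeff he s
    obtain ⟨θ, hθ, hθC, hθX⟩ := exists_etale_param q c het U.2 hUW
    letI : Algebra k Γ(X, U.1) := (baseHom q U.1).toAlgebra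
    let θ' : MvPolynomial (ULift.{u} (Fin n)) k →ₐ[k] Γ(X, U.1) := { θ with commutes' := hθC }
    let jj : ULift.{u} (Fin n) := ULift.up (ε ⟨j, hxj⟩)
    let v := θ' (MvPolynomial.X jj)
    have hjv : (D j).ideal U = Ideal.span {v} := (hideal ⟨j, hxj⟩ U hUW).trans (by rw [← hθX]; rfl)
    haveI : Nonempty U.1 := ⟨⟨π y, hxU⟩⟩
    obtain ⟨w, hw, hfw⟩ := exists_unit_coeff hs e he f hf j v hjv fun i hij hi =>
      hmiss i (fun hxi => hij (hdisj _ i j hi hj hxi hxj)) U hUW
    obtain ⟨-, S, ω, hω, hv, -, d, ω', hω', ⟨s', hs'⟩, hd⟩ :=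
      branch_chart hL hN (k := k) hR U ⟨π y, hxU⟩ e he f hf θ' hθ jj (α j) w hw hfw hNk
    have hn : N / Nat.gcd N (α j) ≠ 0 :=
      (Nat.div_pos (Nat.le_of_dvd hN (Nat.gcd_dvd_left _ _)) (Nat.gcd_pos_of_pos_left _ hN)).ne'
    let PU : Y.affineOpens := ⟨π ⁻¹ᵁ U.1, U.2.preimage π⟩
    have hyS : y ∉ Y.basicOpen S := fun hyS => by
      have h1 : y ∈ Y.basicOpen (π.app U.1 v) := by
        rw [hv, Scheme.basicOpen_mul, Y.basicOpen_of_isUnit hω]
        erw [Scheme.basicOpen_pow (f := S) (h := Nat.pos_of_ne_zero hn)]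
        exact ⟨hxU, hyS⟩
      rw [← Scheme.preimage_basicOpen] at h1
      have h2 : π y ∈ X.zeroLocus (U := U.1) ((D j).ideal U : Set Γ(X, U.1)) := by
        have h3 : π y ∈ ((D j).support : Set X) ∩ U.1 := ⟨hxj, hxU⟩
        rw [(D j).coe_support_inter U] at h3
        exact h3.1
      exact (Scheme.mem_zeroLocus_iff _ _ _).1 h2 v (by rw [hjv]; exact Ideal.mem_span_singleton_self v) h1
    have hyd : y ∈ Y.basicOpen d := by
      rw [Scheme.mem_basicOpen _ _ y hxU]
      by_contra hd'
      refine hyS ?_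
      rw [Scheme.mem_basicOpen _ _ y hxU]
      by_contra hS'
      have h1 := congrArg (Y.presheaf.germ (π ⁻¹ᵁ U.1) y hxU) hs'
      rw [map_sub, map_mul] at h1
      refine IsLocalRing.maximalIdeal.isMaximal _ |>.ne_top (Ideal.eq_top_of_isUnit_mem _ ?_
        (hω'.map (Y.presheaf.germ (π ⁻¹ᵁ U.1) y hxU).hom))
      rw [show (Y.presheaf.germ (π ⁻¹ᵁ U.1) y hxU).hom ω' = Y.presheaf.germ (π ⁻¹ᵁ U.1) y hxU d -
        (Y.presheaf.germ (π ⁻¹ᵁ U.1) y hxU S * Y.presheaf.germ (π ⁻¹ᵁ U.1) y hxU s') from by rw [← h1]; abel]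
      exact Submodule.sub_mem _ hd' (Ideal.mul_mem_right _ _ hS')
    let V : Y.affineOpens := ⟨Y.basicOpen d, PU.2.basicOpen d⟩
    have hVU : V.1 ≤ π ⁻¹ᵁ U.1 := Y.basicOpen_le d
    let res := (Y.presheaf.map (homOfLE hVU).op).hom
    letI : Algebra Γ(Y, π ⁻¹ᵁ U.1) Γ(Y, V.1) := res.toAlgebra
    haveI : IsLocalization.Away d Γ(Y, V.1) := PU.2.isLocalization_basicOpen d
    let w' : ULift.{u} (Fin n) → Γ(Y, V.1) := fun i =>
      res (Function.update (fun i => (π.app U.1).hom (θ' (MvPolynomial.X i))) jj S i)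
    have hw' : (MvPolynomial.eval₂Hom (baseHom (π ≫ q) V.1) w').Etale := by
      let E := IsLocalization.algEquiv (Submonoid.powers d) (Localization.Away d) Γ(Y, V.1)
      have heq : MvPolynomial.eval₂Hom (baseHom (π ≫ q) V.1) w' = E.toRingEquiv.toRingHom.comp
          ((algebraMap Γ(Y, π ⁻¹ᵁ U.1) (Localization.Away d)).comp (MvPolynomial.eval₂Hom
            ((π.app U.1).hom.comp (algebraMap k Γ(X, U.1)))
            (Function.update (fun i => (π.app U.1).hom (θ' (MvPolynomial.X i))) jj S))) := by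
        refine MvPolynomial.ringHom_ext (fun x => ?_) fun i => ?_
        · simp only [RingHom.comp_apply, MvPolynomial.eval₂Hom_C, baseHom_comp q U.1 hVU]
          exact (E.commutes _).symm
        · simp only [RingHom.comp_apply, MvPolynomial.eval₂Hom_X']
          exact (E.commutes _).symm
      rw [heq]
      exact RingHom.Etale.respectsIso.1 _ E.toRingEquiv hd
    refine ⟨U, hUW, V, hVU, w', hyd, hw', fun i => ?_⟩
    have hrad := isRadical_coord _ hw' (ULift.up (ε i))
    rw [MvPolynomial.eval₂Hom_X'] at hrad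
    have happ : ∀ a, (π.appLE U.1 V.1 hVU) a = res ((π.app U.1).hom a) := fun a => rfl
    rw [← hθX, happ]
    by_cases hi : ULift.up (ε i) = jj
    · rw [hi] at hrad ⊢
      rw [show θ (MvPolynomial.X jj) = v from rfl, show (π.app U.1).hom v = _ from hv, map_mul, map_pow,
        Ideal.span_singleton_mul_left_unit (hω.map res), ← Ideal.span_singleton_pow, Ideal.radical_pow _ hn]
      simp only [w', Function.update_self] at hrad ⊢
      exact hrad.radical
    · simp only [w', Function.update_of_ne hi] at hrad ⊢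
      exact hrad.radical
  · simp only [not_exists, not_and] at h
    obtain ⟨U, hxU, hUW, -, hπ⟩ := smooth_of_unit hL hN q hs hR hNk (V := W') hxW' h
    obtain ⟨θ, hθ, hθC, hθX⟩ := exists_etale_param q c het U.2 hUW
    have hφ : MvPolynomial.eval₂Hom (baseHom (π ≫ q) (π ⁻¹ᵁ U.1))
        (fun i => (π.app U.1).hom (θ (MvPolynomial.X i))) = (π.app U.1).hom.comp θ := by
      refine MvPolynomial.ringHom_ext (fun x => ?_) fun i => ?_
      · rw [MvPolynomial.eval₂Hom_C, RingHom.comp_apply, hθC, baseHom_comp q U.1 le_rfl]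
        simp
      · rw [MvPolynomial.eval₂Hom_X', RingHom.comp_apply]
    have hw' := hφ.symm ▸ RingHom.Etale.stableUnderComposition θ (π.app U.1).hom hθ hπ
    refine ⟨U, hUW, ⟨π ⁻¹ᵁ U.1, U.2.preimage π⟩, le_rfl, fun i => (π.app U.1).hom (θ (MvPolynomial.X i)),
      hxU, hw', fun i => ?_⟩
    have hrad := isRadical_coord _ hw' (ULift.up (ε i))
    rw [MvPolynomial.eval₂Hom_X'] at hrad
    rw [← hθX, ← Scheme.Hom.app_eq_appLE]
    exact hrad.radical

end Groth.Agent.CycCov12
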