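import Groth.Agent.Lib.CycCov12.Decomp
import Groth.Agent.Lib.CurveOm17.Glue
import Groth.Agent.Lib.TensorMod.InvCrit
import Groth.Agent.Lib.TensorMod.IdealMod
import Groth.Agent.Lib.CBC10.Bc0

/-!
# The direct image of the structure sheaf of a cyclic cover
-/

set_option autoImplicit false
set_option backward.isDefEq.respectTransparency false
set_option linter.style.haveILetI false
set_option maxHeartbeats 1000000

universe u

open CategoryTheory AlgebraicGeometry Opposite TopologicalSpace Limits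

noncomputable section

namespace Groth.Agent.CycCov12

open Groth.Agent Groth.Agent.M1 Groth.Agent.CycCover13 Groth.Agent.M2

variable {X : Scheme.{u}} [IsIntegral X] {Y : Scheme.{u}} {L : X.Modules} {N : ℕ}
  {s : Coh.structureModule X ⟶ CohB1.tensorPow L N} {π : Y ⟶ X} {R : CycCov.Root L N s π}
  (hL : PicF.IsInvertible L) (hN : 0 < N) {k : Type u} [Field k] (q : X ⟶ Spec (CommRingCat.of k)) [Smooth q]
  {r : ℕ} {D : Fin r → X.IdealSheafData} {α : Fin r → ℕ}

include hL hN in
/-- A nonzero function on the base is a nonzerodivisor upstairs. -/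
theorem app_regular (hR : CycCov.IsCover R) {U V : X.Opens} [Nonempty U] (hVU : V ≤ U) (a : Γ(X, U)) (ha : a ≠ 0)
    (y : Γ(Y, π ⁻¹ᵁ V)) (hy : (π.app V).hom (ores hVU a) * y = 0) : y = 0 := by
  haveI := isReduced_of_isNormalScheme hR.2.1
  rcases Set.eq_empty_or_nonempty (V : Set X) with hV | hV
  · refine (basicOpen_eq_bot_iff y).1 (eq_bot_iff.2 fun z hz => ?_)
    have h1 : π z ∈ (V : Set X) := Y.basicOpen_le y hz
    rw [hV] at h1
    exact h1.elim
  · haveI : Nonempty V := ⟨⟨_, hV.some_mem⟩⟩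
    let b := ores hVU a
    have hb : b ≠ 0 := fun h => ha ((map_injective_of_isIntegral X (homOfLE hVU)) (h.trans (map_zero _).symm))
    have hbV : X.basicOpen b ≤ V := X.basicOpen_le b
    refine eq_zero_of_res hL hN hR hbV ?_ y ?_
    · rw [Set.nonempty_iff_ne_empty, Ne, TopologicalSpace.Opens.coe_eq_empty, basicOpen_eq_bot_iff]
      exact hb
    · have h1 := congrArg (Y.presheaf.map (homOfLE (π.preimage_mono hbV)).op).hom hy
      rw [map_mul, map_zero] at h1
      have hu : IsUnit ((Y.presheaf.map (homOfLE (π.preimage_mono hbV)).op).hom (π.app V b)) := by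
        have h2 : (π.app V ≫ Y.presheaf.map (homOfLE (π.preimage_mono hbV)).op) =
            X.presheaf.map (homOfLE hbV).op ≫ π.app (X.basicOpen b) := (π.naturality _).symm
        have h3 := (RingedSpace.isUnit_res_basicOpen _ b).map (π.app (X.basicOpen b)).hom
        exact (DFunLike.congr_fun (congrArg CommRingCat.Hom.hom h2) b) ▸ h3
      exact hu.mul_right_eq_zero.1 h1

omit [IsIntegral X] in
theorem lpow_smul {U : X.Opens} (b : Γ(X, U)) (e : Γ(L, U)) (n : ℕ) :
    CycCov.lpow L U (b • e) n = b ^ n • CycCov.lpow L U e n := by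
  induction n with
  | zero => rw [pow_zero]; exact (one_smul _ _).symm
  | succ n ih =>
    show tsec _ _ (CycCov.lpow L U (b • e) n) (b • e) = _
    rw [ih, tsec_smul_left, tsec_smul_right, smul_smul, ← pow_succ]
    rfl

/-- An adapted frame: an affine open on which `L` and all components are principal. -/
structure AFrame (L : X.Modules) (N : ℕ) (s : Coh.structureModule X ⟶ CohB1.tensorPow L N)
    (D : Fin r → X.IdealSheafData) (α : Fin r → ℕ) where
  U : X.affineOpens
  ne : Nonempty U.1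
  e : Γ(L, U.1)
  he : Twist.IsGen L U.1 e
  f : Γ(X, U.1)
  hf : SecTwist.val s U.1 = f • CycCov.lpow L U.1 e N
  v : Fin r → Γ(X, U.1)
  hv : ∀ j, (D j).ideal U = Ideal.span {v j}
  hP : ∏ j, v j ≠ 0
  hrad : (Ideal.span {∏ j, v j}).IsRadical
  w : Γ(X, U.1)
  hw : IsUnit w
  hfw : f = w * ∏ j, v j ^ α j

variable (hs : CycCov.IsZeroDiv (CohB1.tensorPow L N) s (CycCov.divIdeal D α))

include hL hs q in
theorem exists_aframe (hD : LogNCD.IsNCD D q) {x : X} {V : X.Opens} (hxV : x ∈ V) :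
    ∃ F : AFrame L N s D α, x ∈ F.U.1 ∧ F.U.1 ≤ V := by
  classical
  obtain ⟨U, v, hxU, hUV, hv, hP, hrad, e, he⟩ : ∃ (U : X.affineOpens) (v : Fin r → Γ(X, U.1)), x ∈ U.1 ∧ U.1 ≤ V ∧
      (∀ j, (D j).ideal U = Ideal.span {v j}) ∧ ∏ j, v j ≠ 0 ∧ (Ideal.span {∏ j, v j}).IsRadical ∧
        ∃ e : Γ(L, U.1), Twist.IsGen L U.1 e := by
    by_cases hth : Nonempty (LogNCD.Through D x)
    · obtain ⟨W', hxW', n, c, ε, hinj, het, hideal, hmiss⟩ := hD x hth
      obtain ⟨U, hxU, hUV, e, he⟩ := exists_frame hL (x := x) (V := V ⊓ W') ⟨hxV, hxW'⟩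
      have hUW : U.1 ≤ W' := hUV.trans inf_le_right
      obtain ⟨θ, hθ, hθC, hθX⟩ := exists_etale_param q c het U.2 hUW
      let v : Fin r → Γ(X, U.1) := fun j =>
        if h : x ∈ (D j).support then θ (MvPolynomial.X (ULift.up (ε ⟨j, h⟩))) else 1
      haveI : Nonempty U.1 := ⟨⟨x, hxU⟩⟩
      haveI : Nontrivial Γ(X, U.1) := X.component_nontrivial U.1
      let T : Finset (Fin r) := (Finset.univ : Finset (Fin r)).filter fun j => x ∈ (D j).support
      let ι' : {j // j ∈ T} → ULift.{u} (Fin n) := fun j =>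
        ULift.up (ε ⟨j.1, by have hm := Finset.mem_filter.1 j.2; exact hm.2⟩)
      have hι' : Function.Injective ι' := fun a b h => Subtype.ext
        (congrArg (fun t : LogNCD.Through D x => t.1) (hinj (ULift.up_injective h)))
      let S : Finset (ULift.{u} (Fin n)) := T.attach.image ι'
      have hprod : ∏ j, v j = ∏ l ∈ S, θ (MvPolynomial.X l) := by
        simp only [S]
        rw [Finset.prod_image hι'.injOn]
        rw [← Finset.prod_subset (Finset.subset_univ (Finset.univ.filter fun j => x ∈ (D j).support))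
          (fun j _ hj => dif_neg (fun h => hj (Finset.mem_filter.2 ⟨Finset.mem_univ _, h⟩))),
          ← Finset.prod_attach]
        exact Finset.prod_congr rfl fun j _ => dif_pos (by have hm := Finset.mem_filter.1 j.2; exact hm.2)
      refine ⟨U, v, hxU, hUV.trans inf_le_left, fun j => ?_, ?_, hprod ▸ isRadical_prod_coord θ hθ S, e, he⟩
      · by_cases h : x ∈ (D j).support
        · rw [show v j = θ (MvPolynomial.X (ULift.up (ε ⟨j, h⟩))) from dif_pos h, hθX]
          exact hideal ⟨j, h⟩ U hUW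
        · rw [show v j = 1 from dif_neg h, Ideal.span_singleton_one, hmiss j h U hUW]
      · rw [hprod, Finset.prod_ne_zero_iff]
        intro l _ h0
        letI := θ.toAlgebra
        haveI : Algebra.Etale (MvPolynomial (ULift.{u} (Fin n)) k) Γ(X, U.1) := hθ
        have hreg : IsSMulRegular (MvPolynomial (ULift.{u} (Fin n)) k)
            (MvPolynomial.X l : MvPolynomial (ULift.{u} (Fin n)) k) :=
          isRegular_iff_ne_zero.2 (MvPolynomial.X_ne_zero l) |>.left
        have h1 : IsSMulRegular Γ(X, U.1)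
            (algebraMap (MvPolynomial (ULift.{u} (Fin n)) k) Γ(X, U.1) (MvPolynomial.X l)) :=
          IsSMulRegular.of_flat hreg
        exact one_ne_zero (h1 (a₁ := 1) (a₂ := 0) (by
          rw [show algebraMap (MvPolynomial (ULift.{u} (Fin n)) k) Γ(X, U.1) (MvPolynomial.X l) = 0 from h0]
          simp))
    · let V' : X.Opens := ⟨V.1 ∩ ⋂ i, ((D i).support : Set X)ᶜ,
        V.2.inter (isOpen_iInter_of_finite fun i => (D i).support.isClosed.isOpen_compl)⟩
      obtain ⟨U, hxU, hUV, e, he⟩ := exists_frame hL (x := x) (V := V')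
        ⟨hxV, Set.mem_iInter.2 fun i h => hth ⟨⟨i, h⟩⟩⟩
      haveI : Nonempty U.1 := ⟨⟨x, hxU⟩⟩
      haveI : Nontrivial Γ(X, U.1) := X.component_nontrivial U.1
      refine ⟨U, fun _ => 1, hxU, hUV.trans fun y hy => hy.1, fun j => ?_, by simp, ?_, e, he⟩
      · rw [Ideal.span_singleton_one]
        exact ideal_eq_top (D j) U fun y hy => Set.mem_iInter.1 (hUV hy).2 j
      · rw [Finset.prod_const_one, Ideal.span_singleton_one]
        exact fun x _ => Submodule.mem_top
  haveI : Nonempty U.1 := ⟨⟨x, hxU⟩⟩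
  obtain ⟨f, hf⟩ := exists_coeff he s
  have hgen := cycGen (isGen_lpow he N)
  obtain ⟨w, hw, hfw⟩ : ∃ w, IsUnit w ∧ f = w * ∏ j, v j ^ α j := by
    have h2 := hs U
    rw [CycCov.divIdeal, ideal_prod] at h2
    rw [Finset.prod_congr rfl fun j _ => show (D j ^ α j).ideal U = Ideal.span {v j ^ α j} by
      rw [Scheme.IdealSheafData.ideal_pow, Pi.pow_apply, hv, Ideal.span_singleton_pow], Ideal.prod_span_singleton, hf,
      show (⊤ : Submodule Γ(X, U.1) _) = Submodule.span Γ(X, U.1) {CycCov.lpow L U.1 e N} from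
      (eq_top_iff.2 fun y _ => by
        obtain ⟨b, hb⟩ := hgen.2 y
        exact Submodule.mem_span_singleton.2 ⟨b, hb⟩).symm, ← Ideal.submodule_span_eq, Submodule.span_smul_span,
      Set.singleton_smul_singleton] at h2
    have h3 : ∀ a b : Γ(X, U.1), a • CycCov.lpow L U.1 e N ∈ Submodule.span Γ(X, U.1)
        {b • CycCov.lpow L U.1 e N} → b ∣ a := fun a b h => by
      obtain ⟨t, ht⟩ := Submodule.mem_span_singleton.1 h
      refine ⟨t, hgen.1 ?_⟩
      show a • _ = (b * t) • _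
      rw [mul_comm, ← smul_smul]
      exact ht.symm
    obtain ⟨u, hu⟩ := associated_of_dvd_dvd (h3 _ _ (h2.le (Submodule.mem_span_singleton_self _)))
      (h3 _ _ (h2.ge (Submodule.mem_span_singleton_self _)))
    exact ⟨u, u.isUnit, by rw [← hu, mul_comm]⟩
  exact ⟨⟨U, inferInstance, e, he, f, hf, v, hv, hP, hrad, w, hw, hfw⟩, hxU, hUV⟩

variable (F : AFrame L N s D α)

/-- The equation of the integral part. -/
def AFrame.Q (i : ℕ) : Γ(X, F.U.1) := ∏ j, F.v j ^ (i * α j / N)

theorem AFrame.Q_ne_zero (i : ℕ) : F.Q i ≠ 0 := by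
  haveI := F.ne
  refine Finset.prod_ne_zero_iff.2 fun j _ => pow_ne_zero _ ?_
  exact Finset.prod_ne_zero_iff.1 F.hP j (Finset.mem_univ _)

theorem AFrame.floorIdeal_ideal (i : ℕ) : (CycCov.floorIdeal D α N i).ideal F.U = Ideal.span {F.Q i} := by
  rw [CycCov.floorIdeal, CycCov.divIdeal, ideal_prod, AFrame.Q, ← Ideal.prod_span_singleton]
  exact Finset.prod_congr rfl fun j _ => by
    rw [Scheme.IdealSheafData.ideal_pow, Pi.pow_apply, F.hv, Ideal.span_singleton_pow]

include hL hN in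
/-- The function `t^i / Q_i`. -/
theorem AFrame.exists_q (hR : CycCov.IsCover R) (i : ℕ) :
    ∃ y : Γ(Y, π ⁻¹ᵁ F.U.1), (π.app F.U.1).hom (F.Q i) * y = R.t F.U F.e (cycGen F.he) ^ i := by
  haveI := F.ne
  haveI : IsFinite π := hR.1
  letI := (π.app F.U.1).hom.toAlgebra
  rcases subsingleton_or_nontrivial Γ(Y, π ⁻¹ᵁ F.U.1) with h | h
  · exact ⟨0, Subsingleton.elim _ _⟩
  obtain ⟨y, hy⟩ : (π.app F.U.1).hom (F.Q i) ∣ R.t F.U F.e (cycGen F.he) ^ i := by
    refine dvd_of_integral (NormalExt19.isNormalRing_of_isNormalScheme hR.2.1 (F.U.2.preimage π))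
      (fun y hy => app_regular hL hN hR le_rfl _ (F.Q_ne_zero i) y (by
        simpa using hy)) _ (pol N (F.w ^ i * ∏ j, F.v j ^ (i * α j % N))) (monic_pol hN _) ?_
    have hQ : F.w ^ i * (∏ j, F.v j ^ (i * α j % N)) * F.Q i ^ N = F.f ^ i := by
      rw [F.hfw, mul_pow, mul_assoc, AFrame.Q]
      simp only [← Finset.prod_pow, ← Finset.prod_mul_distrib, ← pow_mul, ← pow_add]
      congr 1
      refine Finset.prod_congr rfl fun j _ => ?_
      rw [Nat.mul_comm (i * α j / N) N, Nat.mod_add_div, Nat.mul_comm]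
    rw [show (pol N (F.w ^ i * ∏ j, F.v j ^ (i * α j % N))).map (algebraMap Γ(X, F.U.1) Γ(Y, π ⁻¹ᵁ F.U.1)) =
      pol N ((π.app F.U.1).hom (F.w ^ i * ∏ j, F.v j ^ (i * α j % N))) by
      rw [pol, Polynomial.map_sub, Polynomial.map_pow, Polynomial.map_X, Polynomial.map_C]; rfl, scaleRoots_pol hN, Polynomial.eval_sub, Polynomial.eval_pow,
      Polynomial.eval_X, Polynomial.eval_C, ← map_pow, ← map_mul, hQ, ← pow_mul, mul_comm i N, pow_mul,
      R.pow_eq F.U F.e (cycGen F.he) F.f F.hf, ← map_pow, sub_self]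
  exact ⟨y, hy.symm⟩

theorem AFrame.isGen_ideal (i : ℕ) : ∃ t : Γ(ClSub.idealMod (CycCov.floorIdeal D α N i), F.U.1),
    idealIncl (CycCov.floorIdeal D α N i) t = F.Q i ∧
      Twist.IsGen (ClSub.idealMod (CycCov.floorIdeal D α N i)) F.U.1 t := by
  haveI := F.ne
  obtain ⟨t, ht⟩ : F.Q i ∈ Set.range (idealIncl (CycCov.floorIdeal D α N i) (U := F.U.1)) := by
    rw [range_idealIncl, F.floorIdeal_ideal i]
    exact Ideal.mem_span_singleton_self _
  exact ⟨t, ht, isGenerator_idealMod _ (F.Q i) (mem_nonZeroDivisors_of_ne_zero (F.Q_ne_zero i))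
    (F.floorIdeal_ideal i) t ht⟩

/-- A generator of the inverse of the integral part, paired to the standard generator. -/
def AFrame.Good {M : X.Modules} (i : ℕ) (Φ : CohB1.tensorMod (CycCov.intPart L D α N i) M ≅ Coh.structureModule X)
    (m : Γ(M, F.U.1)) : Prop :=
  Twist.IsGen M F.U.1 m ∧ ∀ t : Γ(ClSub.idealMod (CycCov.floorIdeal D α N i), F.U.1),
    idealIncl (CycCov.floorIdeal D α N i) t = F.Q i →
      Φ.hom.app F.U.1 (tsec (CycCov.intPart L D α N i) M
        (tsec (CohB1.tensorPow L i) (ClSub.idealMod (CycCov.floorIdeal D α N i)) (CycCov.lpow L F.U.1 F.e i) t) m) =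
        (1 : Γ(X, F.U.1))

theorem AFrame.exists_good {M : X.Modules} (i : ℕ)
    (Φ : CohB1.tensorMod (CycCov.intPart L D α N i) M ≅ Coh.structureModule X)
    (m₀ : Γ(M, F.U.1)) (hm₀ : Twist.IsGen M F.U.1 m₀) : ∃ m, F.Good i Φ m := by
  obtain ⟨t, ht, htg⟩ := F.isGen_ideal i
  let g := tsec (CohB1.tensorPow L i) (ClSub.idealMod (CycCov.floorIdeal D α N i)) (CycCov.lpow L F.U.1 F.e i) t
  have hg : Twist.IsGen (CycCov.intPart L D α N i) F.U.1 g := CurveOm17.isGen_tsec (isGen_lpow F.he i) htg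
  obtain ⟨z, hz⟩ : ∃ z : Γ(CohB1.tensorMod (CycCov.intPart L D α N i) M, F.U.1), Φ.hom.app F.U.1 z = (1 : Γ(X, F.U.1)) :=
    ⟨Φ.inv.app F.U.1 (1 : Γ(X, F.U.1)),
      CategoryTheory.congr_fun (congrArg (fun φ => φ.app F.U.1) Φ.inv_hom_id) _⟩
  obtain ⟨a, ha⟩ := (cycGen (CurveOm17.isGen_tsec hg hm₀)).2 z
  have hau : IsUnit a := by
    let u : Γ(X, F.U.1) := Φ.hom.app F.U.1 (tsec (CycCov.intPart L D α N i) M g m₀)
    refine isUnit_iff_exists_inv.2 ⟨u, ?_⟩
    show a • (Φ.hom.app F.U.1 (tsec (CycCov.intPart L D α N i) M g m₀)) = (1 : Γ(X, F.U.1))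
    rw [← Scheme.Modules.Hom.app_smul, show a • tsec (CycCov.intPart L D α N i) M g m₀ = z from ha, hz]
  refine ⟨a • m₀, fun W hW => ?_, fun t' ht' => ?_⟩
  · simp only [mres_smul, smul_smul]
    obtain ⟨u, hu⟩ := hau.map (ores hW).hom
    have h1 : Function.Bijective fun c : Γ(X, W) => c * ores hW a := by
      rw [show ores hW a = (u : Γ(X, W)) from hu.symm]
      exact ⟨fun c c' h => u.isUnit.mul_right_cancel h, fun c => ⟨c * ↑u⁻¹, by simp⟩⟩
    exact (hm₀ W hW).comp h1
  · rw [idealIncl_injective _ _ (ht'.trans ht.symm), tsec_smul_right,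
      show a • tsec (CycCov.intPart L D α N i) M g m₀ = z from ha, hz]

include hL hN in
/-- The transition rule between the paired generators and the functions `t^i/Q_i`. -/
theorem AFrame.transition (hR : CycCov.IsCover R) {M : X.Modules} (i : ℕ)
    (Φ : CohB1.tensorMod (CycCov.intPart L D α N i) M ≅ Coh.structureModule X)
    (F' : AFrame L N s D α) (m : Γ(M, F.U.1)) (hm : F.Good i Φ m) (m' : Γ(M, F'.U.1)) (hm' : F'.Good i Φ m')
    (y : Γ(Y, π ⁻¹ᵁ F.U.1)) (hy : (π.app F.U.1).hom (F.Q i) * y = R.t F.U F.e (cycGen F.he) ^ i)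
    (y' : Γ(Y, π ⁻¹ᵁ F'.U.1)) (hy' : (π.app F'.U.1).hom (F'.Q i) * y' = R.t F'.U F'.e (cycGen F'.he) ^ i)
    (V : X.Opens) (hVa : IsAffineOpen V) (h : V ≤ F.U.1) (h' : V ≤ F'.U.1) (a : Γ(X, V))
    (ha : mres M h' m' = a • mres M h m) :
    Y.presheaf.map (homOfLE (π.preimage_mono h')).op y' =
      (π.app V).hom a * Y.presheaf.map (homOfLE (π.preimage_mono h)).op y := by
  haveI := F.ne
  haveI := F'.ne
  obtain ⟨t, ht, htg⟩ := F.isGen_ideal i
  obtain ⟨t', ht', -⟩ := F'.isGen_ideal i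
  obtain ⟨b, hb⟩ := (F.he V h).2 (mres L h' F'.e)
  obtain ⟨c, hc⟩ := (htg V h).2 (mres _ h' t')
  change b • mres L h F.e = mres L h' F'.e at hb
  change c • mres _ h t = mres _ h' t' at hc
  have hQ : ores h' (F'.Q i) = c * ores h (F.Q i) := by
    rw [← ht, ← ht', ← idealIncl_res, ← idealIncl_res, ← idealIncl_smul]
    exact congrArg _ hc.symm
  -- pairing
  have hone : b ^ i * c * a = 1 := by
    have e1 : ores h' (1 : Γ(X, F'.U.1)) = Φ.hom.app V (tsec (CycCov.intPart L D α N i) M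
        (tsec (CohB1.tensorPow L i) _ (CycCov.lpow L V (mres L h' F'.e) i) (mres _ h' t')) (mres M h' m')) := by
      rw [← hm'.2 t' ht', ← lpow_mres h' F'.e i]
      refine (M1.map_app_eq Φ.hom h' _).symm.trans (congrArg _ ?_)
      exact (res_tsec _ _ _).trans (congrArg (fun z => tsec (CycCov.intPart L D α N i) M z (mres M h' m'))
        (res_tsec _ _ _))
    have e2 : ores h (1 : Γ(X, F.U.1)) = Φ.hom.app V (tsec (CycCov.intPart L D α N i) M
        (tsec (CohB1.tensorPow L i) _ (CycCov.lpow L V (mres L h F.e) i) (mres _ h t)) (mres M h m)) := by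
      rw [← hm.2 t ht, ← lpow_mres h F.e i]
      refine (M1.map_app_eq Φ.hom h _).symm.trans (congrArg _ ?_)
      exact (res_tsec _ _ _).trans (congrArg (fun z => tsec (CycCov.intPart L D α N i) M z (mres M h m))
        (res_tsec _ _ _))
    rw [map_one, ← hb, ← hc, lpow_smul, tsec_smul_left, tsec_smul_right, ha, smul_smul] at e1
    erw [tsec_smul_left, tsec_smul_right, smul_smul, Scheme.Modules.Hom.app_smul, ← e2, map_one] at e1
    exact (e1.trans (mul_one _)).symm
  -- roots
  let res := fun {U : X.Opens} (hU : V ≤ U) => (Y.presheaf.map (homOfLE (π.preimage_mono hU)).op).hom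
  have hnat : ∀ {U : X.Opens} (hU : V ≤ U) (z : Γ(X, U)), res hU ((π.app U).hom z) = (π.app V).hom (ores hU z) :=
    fun {U} hU z => (DFunLike.congr_fun (congrArg CommRingCat.Hom.hom (π.naturality (homOfLE hU).op)) z).symm
  have ht₁ : res h (R.t F.U F.e (cycGen F.he)) =
      res h' (R.t F'.U F'.e (cycGen F'.he)) * (π.app V).hom b := by
    let V' : X.affineOpens := ⟨V, hVa⟩
    have hg := cycGen (F.he.mres h)
    have hg' : CycCov.IsGen L V'.1 (b • mres L h F.e) := hb ▸ cycGen (F'.he.mres h')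
    rw [show res h' (R.t F'.U F'.e (cycGen F'.he)) = R.t V' (b • mres L h F.e) hg' from by
      simp only [hb]
      exact R.t_res F'.U V' h' F'.e (cycGen F'.he) (cycGen (F'.he.mres h'))]
    rw [show res h (R.t F.U F.e (cycGen F.he)) = R.t V' (mres L h F.e) hg from
      R.t_res F.U V' h F.e (cycGen F.he) hg]
    exact (R.t_smul V' (mres L h F.e) hg b hg').symm
  refine sub_eq_zero.1 (app_regular hL hN hR h' (F'.Q i) (F'.Q_ne_zero i) _ ?_)
  rw [mul_sub, sub_eq_zero]
  have e1 : (π.app V).hom (ores h' (F'.Q i)) * res h' y' = res h' (R.t F'.U F'.e (cycGen F'.he)) ^ i := by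
    rw [← hnat, ← map_mul, hy', map_pow]
  have e2 : (π.app V).hom (ores h (F.Q i)) * res h y = res h (R.t F.U F.e (cycGen F.he)) ^ i := by
    rw [← hnat, ← map_mul, hy, map_pow]
  show (π.app V).hom (ores h' (F'.Q i)) * res h' y' = (π.app V).hom (ores h' (F'.Q i)) * ((π.app V).hom a * res h y)
  rw [e1, hQ, map_mul]
  have e3 : (π.app V).hom b ^ i * (π.app V).hom c * (π.app V).hom a = 1 := by
    rw [← map_pow, ← map_mul, ← map_mul, hone, map_one]
  calc res h' (R.t F'.U F'.e (cycGen F'.he)) ^ i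
      = (res h' (R.t F'.U F'.e (cycGen F'.he)) * (π.app V).hom b) ^ i * ((π.app V).hom c * (π.app V).hom a) := by
        rw [mul_pow]; linear_combination -(res h' (R.t F'.U F'.e (cycGen F'.he)) ^ i) * e3
    _ = _ := by rw [← ht₁, ← e2]; ring

include hL hN in
/-- On an adapted frame the direct image is free on the functions `t^i/Q_i`. -/
theorem AFrame.bijective_sum (hR : CycCov.IsCover R) (hNk : IsUnit (N : Γ(X, F.U.1)))
    (hA : IsIntegrallyClosed Γ(X, F.U.1)) (y : Fin N → Γ(Y, π ⁻¹ᵁ F.U.1))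
    (hy : ∀ i : Fin N, (π.app F.U.1).hom (F.Q i) * y i = R.t F.U F.e (cycGen F.he) ^ (i : ℕ)) :
    Function.Bijective fun a : Fin N → Γ(X, F.U.1) => ∑ i, (π.app F.U.1).hom (a i) * y i := by
  haveI := F.ne
  haveI : Nontrivial Γ(X, F.U.1) := X.component_nontrivial F.U.1
  haveI := functionField_isFractionRing_of_isAffineOpen X F.U.1 F.U.2
  haveI : IsFinite π := hR.1
  let A := Γ(X, F.U.1)
  let K := X.functionField
  let p := (π.app F.U.1).hom
  let c := algebraMap A K F.f
  have hb1 : algebraMap A K F.f = (1 : K) ^ N * c := by rw [one_pow, one_mul]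
  let θ := theta (d := N) c (algebraMap A K) F.f 1 hb1
  have hκ : Function.Injective (algebraMap A K) := IsFractionRing.injective A K
  have hθ : Function.Injective θ := theta_injective hN c _ F.f 1 hb1 hκ one_ne_zero
  obtain ⟨hinj, g, hg0, hgB, hloc⟩ := generic_data hL hN hR F.U ⟨_, F.ne.some.2⟩ F.e F.he F.f F.hf
  let φ := CycCov.chart R F.U F.e (cycGen F.he) F.f F.hf
  have hφof : ∀ a, φ (AdjoinRoot.of _ a) = p a := fun a => chart_of F.U F.e (cycGen F.he) F.f F.hf a
  have hφsum : ∀ a : Fin N → A, φ (∑ i, a i • coord hN F.f i) =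
      ∑ i, p (a i) * R.t F.U F.e (cycGen F.he) ^ (i : ℕ) := fun a => by
    rw [map_sum]
    refine Finset.sum_congr rfl fun i _ => ?_
    rw [coord_apply, Algebra.smul_def, map_mul, map_pow, AdjoinRoot.algebraMap_eq, hφof]
    exact congrArg (fun z => p (a i) * z ^ (i : ℕ)) (AdjoinRoot.lift_root _)
  have hQall : (∏ i : Fin N, F.Q i) ≠ 0 := Finset.prod_ne_zero_iff.2 fun i _ => F.Q_ne_zero i
  let T : Fin N → A := fun i => ∏ l ∈ Finset.univ.erase i, F.Q l
  have hT : ∀ i, T i * F.Q i = ∏ l : Fin N, F.Q l := fun i => Finset.prod_erase_mul _ _ (Finset.mem_univ i)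
  have hscale : ∀ a : Fin N → A, p (∏ l : Fin N, F.Q l) * ∑ i, p (a i) * y i =
      φ (∑ i, (a i * T i) • coord hN F.f i) := fun a => by
    rw [hφsum, Finset.mul_sum]
    refine Finset.sum_congr rfl fun i _ => ?_
    rw [← hy i, ← hT i, map_mul, map_mul]
    ring
  refine ⟨fun a a' h => ?_, fun z => ?_⟩
  · have h1 := hinj ((hscale a).symm.trans ((congrArg (fun z => p (∏ l : Fin N, F.Q l) * z) h).trans (hscale a')))
    funext i
    have h2 := congrArg (fun z => (coord hN F.f).repr z i) h1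
    simp only [Module.Basis.repr_sum_self] at h2
    refine mul_right_cancel₀ ?_ h2
    exact Finset.prod_ne_zero_iff.2 fun l _ => F.Q_ne_zero l
  · obtain ⟨n, z₀, hz⟩ := hloc z
    change φ _ ^ n * z = φ z₀ at hz
    rw [hφof] at hz
    obtain ⟨P, hP, hPz⟩ := (IsFinite.finite_app π F.U.1 F.U.2).to_isIntegral z
    have hgm : algebraMap A K (g ^ n) ≠ 0 := (map_ne_zero_iff _ hκ).2 (pow_ne_zero _ hg0)
    let Y₀ := AdjoinRoot.of (pol N c) (algebraMap A K (g ^ n))⁻¹ * θ z₀
    have hz0 : (P.scaleRoots (g ^ n)).eval₂ (AdjoinRoot.of (pol N F.f)) z₀ = 0 := by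
      refine hinj ?_
      rw [map_zero, Polynomial.hom_eval₂]
      have e : φ.comp (AdjoinRoot.of (pol N F.f)) = p := RingHom.ext hφof
      rw [e, show φ z₀ = p (g ^ n) * z by rw [map_pow, hz], Polynomial.scaleRoots_eval₂_mul, hPz, mul_zero]
    have hY₀ : P.eval₂ ((AdjoinRoot.of (pol N c)).comp (algebraMap A K)) Y₀ = 0 := by
      have h1 := congrArg θ hz0
      rw [Polynomial.hom_eval₂, map_zero] at h1
      rw [show θ.comp (AdjoinRoot.of (pol N F.f)) = (AdjoinRoot.of (pol N c)).comp (algebraMap A K) from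
        RingHom.ext fun a => theta_of c (algebraMap A K) F.f 1 hb1 a] at h1
      have h2 : θ z₀ = ((AdjoinRoot.of (pol N c)).comp (algebraMap A K)) (g ^ n) * Y₀ := by
        simp only [Y₀, RingHom.comp_apply]
        rw [← mul_assoc, ← map_mul, mul_inv_cancel₀ hgm, map_one, one_mul]
      rw [h2, Polynomial.scaleRoots_eval₂_mul] at h1
      exact (((IsUnit.mk0 _ hgm).map (AdjoinRoot.of (pol N c))).pow P.natDegree).mul_right_eq_zero.1 h1
    choose b hb using fun i : Fin N => exists_coeff_bound (K := K) hN F.v α F.hP F.hrad F.w F.hw F.f F.hfw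
      ((coord hN c).repr Y₀ i) i (isIntegral_summand hN F.f hNk P hP hY₀ i)
    refine ⟨b, ?_⟩
    -- compare after scaling
    have hcmp : (∑ i, (g ^ n * (b i * T i)) • coord hN F.f i) = (∏ l : Fin N, F.Q l) • z₀ := by
      refine hθ ((coord hN c).repr.injective (Finsupp.ext fun i => ?_))
      rw [coord_theta hN c _ F.f 1 hb1, coord_theta hN c _ F.f 1 hb1, Module.Basis.repr_sum_self, map_smul,
        Finsupp.smul_apply, smul_eq_mul, one_pow, mul_one, mul_one]
      have hz₀ : algebraMap A K ((coord hN F.f).repr z₀ i) = algebraMap A K (g ^ n) * (coord hN c).repr Y₀ i := by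
        have h3 : θ z₀ = algebraMap A K (g ^ n) • Y₀ := by
          simp only [Y₀]
          rw [Algebra.smul_def, AdjoinRoot.algebraMap_eq, ← mul_assoc, ← map_mul, mul_inv_cancel₀ hgm, map_one,
            one_mul]
        have h4 := congrArg (fun z => (coord hN c).repr z i) h3
        simp only [map_smul, Finsupp.smul_apply, smul_eq_mul] at h4
        rw [← h4, coord_theta hN c _ F.f 1 hb1, one_pow, mul_one]
      rw [map_mul (algebraMap A K), map_mul (algebraMap A K), map_mul (algebraMap A K), hz₀, hb i, ← hT i,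
        map_mul (algebraMap A K)]
      simp only [AFrame.Q]
      ring
    have hreg : ∀ w, p (g ^ n * ∏ l : Fin N, F.Q l) * w = 0 → w = 0 := fun w hw =>
      app_regular hL hN hR le_rfl _ (mul_ne_zero (pow_ne_zero _ hg0) hQall) w (by simpa using hw)
    refine sub_eq_zero.1 (hreg _ ?_)
    rw [mul_sub, sub_eq_zero, map_mul, mul_assoc, hscale, ← hφof, ← map_mul, ← AdjoinRoot.algebraMap_eq,
      ← Algebra.smul_def, Finset.smul_sum]
    simp only [smul_smul]
    rw [hcmp, Algebra.smul_def, AdjoinRoot.algebraMap_eq, map_mul, hφof, hφof, map_pow, ← hz]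
    ring

end Groth.Agent.CycCov12
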