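import Groth.Agent.Lib.CycCov12.Push

/-!
# The decomposition of the direct image of the structure sheaf of a cyclic cover
-/

set_option autoImplicit false
set_option backward.isDefEq.respectTransparency false
set_option linter.style.haveILetI false
set_option maxHeartbeats 1000000

universe u

open CategoryTheory AlgebraicGeometry Opposite TopologicalSpace Limits

noncomputable section

namespace Groth.Agent.CycCov12

open Groth.Agent Groth.Agent.M1 Groth.Agent.CycCover13 Groth.Agent.M2

/-- A family of maps which is bijective on sums over a basis is a coproduct. -/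
theorem exists_isColimit_of_bijective_sum {X : Scheme.{u}} {J : Type} [Finite J] [Fintype J] {M : J → X.Modules}
    {Z : X.Modules} (c : ∀ j, M j ⟶ Z) (P : X.Opens → Prop)
    (hP : ∀ (O : X.Opens), ∀ z ∈ O, ∃ W, P W ∧ z ∈ W ∧ W ≤ O)
    (h : ∀ W, P W → Function.Bijective fun x : ∀ j, Γ(M j, W) => ∑ j, (c j).app W (x j)) :
    Nonempty (IsColimit (Cofan.mk Z c)) := by
  classical
  haveI : HasFiniteBiproducts X.Modules := HasFiniteBiproducts.of_hasFiniteCoproducts
  let φ : (⨁ M) ⟶ Z := biproduct.desc c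
  have hsum : ∀ (W : X.Opens) (z : Γ(⨁ M, W)),
      z = ∑ j, (biproduct.ι M j).app W ((biproduct.π M j).app W z) := fun W z => by
    have h1 := congrArg (fun ψ => ψ.app W z) (biproduct.total (f := M))
    simp only [Scheme.Modules.Hom.id_app] at h1
    refine h1.symm.trans ?_
    have h2 : ∀ (s : Finset J) (ψ : J → ((⨁ M) ⟶ ⨁ M)), (∑ j ∈ s, ψ j).app W z = ∑ j ∈ s, (ψ j).app W z :=
      fun s ψ => by
        induction s using Finset.induction_on with
        | empty => simp
        | insert a s ha ih => rw [Finset.sum_insert ha, Finset.sum_insert ha, Scheme.Modules.Hom.add_app, ← ih]; rfl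
    exact h2 _ _
  have hφ : ∀ (W : X.Opens) (z : Γ(⨁ M, W)), φ.app W z = ∑ j, (c j).app W ((biproduct.π M j).app W z) :=
    fun W z => by
      conv_lhs => rw [hsum W z, map_sum]
      refine Finset.sum_congr rfl fun j _ => ?_
      exact CategoryTheory.congr_fun (congrArg (fun ψ => ψ.app W) (biproduct.ι_desc c j)) _
  haveI : IsIso φ := by
    refine CBC10.isIso_of_affine_basis φ P hP fun W hW => ⟨fun z z' hz => ?_, fun y => ?_⟩
    · have h1 := (h W hW).1 ((hφ W z).symm.trans (hz.trans (hφ W z')))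
      rw [hsum W z, hsum W z']
      exact Finset.sum_congr rfl fun j _ => congrArg _ (congrFun h1 j)
    · obtain ⟨x, hx⟩ := (h W hW).2 y
      refine ⟨∑ j, (biproduct.ι M j).app W (x j), ?_⟩
      rw [map_sum, ← hx]
      refine Finset.sum_congr rfl fun j _ => ?_
      exact CategoryTheory.congr_fun (congrArg (fun ψ => ψ.app W) (biproduct.ι_desc c j)) _
  exact ⟨IsColimit.ofIsoColimit (biproduct.isColimit M)
    (Cofan.ext (asIso φ) fun j => biproduct.ι_desc c j)⟩

variable {X : Scheme.{u}} [IsIntegral X] {Y : Scheme.{u}} {L : X.Modules} {N : ℕ}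
  {s : Coh.structureModule X ⟶ CohB1.tensorPow L N} {π : Y ⟶ X} {R : CycCov.Root L N s π}
  (hL : PicF.IsInvertible L) (hN : 0 < N) {k : Type u} [Field k] (q : X ⟶ Spec (CommRingCat.of k)) [Smooth q]
  {r : ℕ} {D : Fin r → X.IdealSheafData} {α : Fin r → ℕ}

include q hL hN in
theorem exists_isColimit_push (hD : LogNCD.IsNCD D q)
    (hs : CycCov.IsZeroDiv (CohB1.tensorPow L N) s (CycCov.divIdeal D α)) (hR : CycCov.IsCover R) (hNk : (N : k) ≠ 0)
    (M : Fin N → X.Modules) (hM : ∀ i : Fin N, ClSub.IsInverseOf (CycCov.intPart L D α N i) (M i)) :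
    ∃ c : ∀ i : Fin N, M i ⟶ (Scheme.Modules.pushforward π).obj (Coh.structureModule Y),
      Nonempty (IsColimit (Cofan.mk ((Scheme.Modules.pushforward π).obj (Coh.structureModule Y)) c)) := by
  classical
  have hMinv : ∀ i, PicF.IsInvertible (M i) := fun i =>
    isInvertible_of_tensor_iso_unit (M i) (CycCov.intPart L D α N i)
      (tensorComm (M i) (CycCov.intPart L D α N i) ≪≫ (hM i).some)
  let Φ := fun i => (hM i).some
  let I := {F : AFrame L N s D α // ∀ i : Fin N, ∃ m : Γ(M i, F.U.1), F.Good i (Φ i) m}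
  have hbasis : ∀ (O : X.Opens), ∀ z ∈ O, ∃ F : I, z ∈ F.1.U.1 ∧ F.1.U.1 ≤ O := fun O z hz => by
    choose G g hzG hg using fun i => ProjUP.exists_isGen_of_invertible (hMinv i) z
    let V : X.Opens := ⟨O.1 ∩ ⋂ i, (G i : Set X), O.2.inter (isOpen_iInter_of_finite fun i => (G i).2)⟩
    obtain ⟨F, hzF, hFV⟩ := exists_aframe (N := N) hL q hs hD (V := V) ⟨hz, Set.mem_iInter.2 hzG⟩
    have hFG : ∀ i, F.U.1 ≤ G i := fun i w hw => Set.mem_iInter.1 (hFV hw).2 i
    exact ⟨⟨F, fun i => F.exists_good i (Φ i) _ ((hg i).mres (hFG i))⟩, hzF, fun w hw => (hFV hw).1⟩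
  have hcov : ⨆ F : I, F.1.U.1 = ⊤ := eq_top_iff.2 fun z _ => by
    obtain ⟨F, hzF, -⟩ := hbasis ⊤ z trivial
    exact Opens.mem_iSup.2 ⟨F, hzF⟩
  choose m hm using fun (i : Fin N) (F : I) => F.2 i
  choose y hy using fun (i : Fin N) (F : I) => F.1.exists_q hL hN hR i
  let Z := (Scheme.Modules.pushforward π).obj (Coh.structureModule Y)
  have hst : ∀ i, Twist.SameTransition (P := M i) (Q := Z) (fun F : I => F.1.U.1) (m i) (fun F => y i F) :=
    fun i F F' V h h' t ht => by
      choose O hO hzO hOV using fun z : V => exists_isAffineOpen_mem_and_subset (U := V) (x := z.1) z.2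
      refine modules_eq_of_locally_eq Z V O hOV (fun z hz => Opens.mem_iSup.2 ⟨⟨z, hz⟩, hzO _⟩) _ _ fun z => ?_
      have hVO : O z ≤ V := hOV z
      rw [mres_mres, mres_smul, mres_mres]
      refine F.1.transition hL hN hR i (Φ i) F'.1 _ (hm i F) _ (hm i F') _ (hy i F) _ (hy i F') (O z) (hO z)
        (hVO.trans h) (hVO.trans h') (ores hVO t) ?_
      rw [← mres_mres (M i) h' hVO, ht, mres_smul, mres_mres]
  let c : ∀ i, M i ⟶ Z := fun i =>
    Twist.glueHom (fun F : I => F.1.U.1) hcov (m i) (fun F => y i F) (fun F => (hm i F).1) (hst i)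
  refine ⟨c, exists_isColimit_of_bijective_sum c (fun W => ∃ F : I, F.1.U.1 = W) (fun O z hz => ?_) ?_⟩
  · obtain ⟨F, hzF, hFO⟩ := hbasis O z hz
    exact ⟨_, ⟨F, rfl⟩, hzF, hFO⟩
  rintro W ⟨F, rfl⟩
  haveI := F.1.ne
  have hne : (F.1.U.1 : Set X).Nonempty := ⟨_, F.1.ne.some.2⟩
  have hNu : IsUnit (N : Γ(X, F.1.U.1)) := by
    have h := (IsUnit.mk0 (N : k) hNk).map (baseHom q F.1.U.1)
    rwa [map_natCast] at h
  have hsum := F.1.bijective_sum hL hN hR hNu (AffRep19.isIntegrallyClosed_of_smooth q F.1.U.1 F.1.U.2 hne)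
    (fun i => y i F) (fun i => hy i F)
  have hca : ∀ (i : Fin N) (a : Γ(X, F.1.U.1)),
      (c i).app F.1.U.1 (a • m i F) = (π.app F.1.U.1).hom a * y i F := fun i a => by
    rw [Scheme.Modules.Hom.app_smul, Twist.glueHom_app_gen]
    rfl
  have hbij : Function.Bijective fun a : Fin N → Γ(X, F.1.U.1) => fun i => a i • m i F :=
    Function.Bijective.piMap fun i => cycGen (hm i F).1
  refine (Function.Bijective.of_comp_iff _ hbij).1 ?_
  refine Eq.subst (motive := Function.Bijective) (funext fun a => ?_) hsum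
  exact Finset.sum_congr rfl fun i _ => (hca i (a i)).symm

end Groth.Agent.CycCov12
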